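import Cfsg.Agent.Lib.RCS.Defs

set_option autoImplicit false
set_option linter.unusedSectionVars false
set_option linter.style.haveILetI false

namespace H50.RC

open Subgroup

variable {G : Type*} [Group G] [Finite G] {a k : ℕ}

omit [Finite G] in
theorem Inv.z0 {u x : G} (h : Inv u x) (hx : x ∈ center G) : x ∈ Z0 G := by
  refine ⟨hx, ?_⟩
  have e : u * x * u⁻¹ = x := by rw [mem_center_iff.1 hx u, mul_inv_cancel_right]
  unfold Inv at h
  rw [e] at h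
  conv_lhs => rw [← inv_inv x, ← h]
  nth_rewrite 1 [h]
  simp

omit [Finite G] in
/-- equal central squares: both factors invert the product -/
theorem inv_mul_of_sq {w v : G} (hw : w * w ∈ Z0 G) (he : v * v = w * w) :
    Inv w (w * v) ∧ Inv v (w * v) := by
  have z2 := z0_sq hw
  have c1 := z0_comm hw
  have hw' : w⁻¹ = w * w * w := by
    rw [inv_eq_iff_mul_eq_one]; rw [← z2]; group
  have hv' : v⁻¹ = w * w * v := by
    rw [inv_eq_iff_mul_eq_one]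
    calc v * (w * w * v) = (v * (w * w)) * v := by group
      _ = (w * w) * (v * v) := by rw [← c1 v]; group
      _ = 1 := by rw [he, z2]
  constructor
  · unfold Inv
    rw [mul_inv_rev, hv']; group
  · unfold Inv
    rw [mul_inv_rev, hw']
    calc v * (w * v) * v⁻¹ = v * w := by group
      _ = v⁻¹ * (v * v) * w := by group
      _ = v⁻¹ * (w * w * w) := by rw [he]; group

omit [Finite G] in
theorem Inv.pow {u x : G} (h : Inv u x) (n : ℕ) : Inv u (x ^ n) := by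
  unfold Inv at h ⊢
  rw [← conj_pow, h, inv_pow]

omit [Finite G] in
theorem Inv.conj {u x : G} (h : Inv u x) (g : G) : Inv (g * u * g⁻¹) (g * x * g⁻¹) := by
  unfold Inv at h ⊢
  calc g * u * g⁻¹ * (g * x * g⁻¹) * (g * u * g⁻¹)⁻¹ = g * (u * x * u⁻¹) * g⁻¹ := by group
    _ = (g * x * g⁻¹)⁻¹ := by rw [h]; group

omit [Finite G] in
theorem Inv.mul_C {u x c : G} (h : Inv u x) (hc : c ∈ C x) : Inv (u * c) x ∧ Inv (c * u) x := by
  have hc' := mem_C'.1 hc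
  unfold Inv at h ⊢
  constructor
  · calc u * c * x * (u * c)⁻¹ = u * (c * x * c⁻¹) * u⁻¹ := by group
      _ = x⁻¹ := by rw [hc', h]
  · calc c * u * x * (c * u)⁻¹ = c * (u * x * u⁻¹) * c⁻¹ := by group
      _ = (c * x * c⁻¹)⁻¹ := by rw [h]; group
      _ = x⁻¹ := by rw [hc']

omit [Finite G] in
theorem Inv.mul_inv {u v x : G} (h : Inv u x) (h' : Inv v x) : u * v ∈ C x := by
  rw [mem_C']
  calc u * v * x * (u * v)⁻¹ = u * (v * x * v⁻¹) * u⁻¹ := by group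
    _ = x := by unfold Inv at h'; rw [h', h.inv]

theorem odd_sq_ne {x : G} (hx : Odd (orderOf x)) (x1 : x ≠ 1) : x * x ≠ 1 := by
  intro h
  have hd : orderOf x ∣ 2 := orderOf_dvd_of_pow_eq_one (by rw [sq, h])
  have : orderOf x = 1 := by
    rcases (Nat.dvd_prime Nat.prime_two).1 hd with e | e
    · exact e
    · rw [e] at hx; exact absurd hx (by decide)
  exact x1 (orderOf_eq_one_iff.1 this)

theorem odd_nc {x : G} (hx : Odd (orderOf x)) (x1 : x ≠ 1) (hr : Re x) : x ∉ center G := by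
  obtain ⟨u, hu⟩ := hr
  exact fun hc => odd_sq_ne hx x1 (hu.z0 hc).2

omit [Finite G] in
private theorem z0_odd_pow {z : G} (hz : z ∈ Z0 G) {n : ℕ} (hn : Odd n) : z ^ n = z := by
  obtain ⟨m, rfl⟩ := hn
  rw [pow_succ, pow_mul, sq, z0_sq hz, one_pow, one_mul]

/-- an odd element centralised modulo `Z0` is centralised -/
theorem odd_C {x s : G} (hx : Odd (orderOf x)) (h : s ∈ M x) : s ∈ C x := by
  have hz : lam x s ∈ Z0 G := h
  have e := conj_eq x s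
  have e1 : (s * x * s⁻¹) ^ orderOf x = 1 := by rw [conj_pow, pow_orderOf_eq_one]; group
  rw [e, (Commute.mul_pow (z0_comm hz x)), pow_orderOf_eq_one, mul_one, z0_odd_pow hz hx] at e1
  exact lam_eq_one.1 e1

theorem tw_of_mem {P : Subgroup G} (hP : IsPGroup 2 P) {y : G} (hy : y ∈ P) : Tw y := by
  obtain ⟨n, hn⟩ := hP ⟨y, hy⟩
  exact ⟨n, by simpa using congrArg Subtype.val hn⟩

theorem Tw.zp {y : G} (hy : Tw y) : IsPGroup 2 (zpowers y) := by
  obtain ⟨n, hn⟩ := hy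
  rintro ⟨_, m, rfl⟩
  refine ⟨n, Subtype.ext ?_⟩
  change (y ^ m) ^ 2 ^ n = 1
  rw [← zpow_natCast, ← zpow_mul, mul_comm, zpow_mul, zpow_natCast, hn, one_zpow]

theorem eq_one_of_tw_odd {y : G} (hy : Tw y) (ho : Odd (orderOf y)) : y = 1 := by
  obtain ⟨n, hn⟩ := hy
  have hd := orderOf_dvd_of_pow_eq_one hn
  have hc : Nat.Coprime (orderOf y) (2 ^ n) := Nat.Coprime.pow_right _ (Nat.coprime_two_right.2 ho)
  exact orderOf_eq_one_iff.1 (Nat.Coprime.eq_one_of_dvd hc hd)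

/-- 2-part and odd part -/
theorem exists_parts (e : G) : ∃ m n : ℕ, Tw (e ^ m) ∧ Odd (orderOf (e ^ n)) ∧ e = e ^ m * e ^ n := by
  obtain ⟨t, q, hq, hN⟩ := Nat.exists_eq_two_pow_mul_odd (orderOf_pos e).ne'
  have hc : Nat.Coprime (2 ^ t) q := Nat.Coprime.pow_left _ (Nat.coprime_two_left.2 hq)
  obtain ⟨m, hm1, hm2⟩ := Nat.chineseRemainder hc 1 0
  obtain ⟨n, hn1, hn2⟩ := Nat.chineseRemainder hc 0 1
  refine ⟨m, n, ⟨t, ?_⟩, ?_, ?_⟩
  · rw [← pow_mul]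
    apply orderOf_dvd_iff_pow_eq_one.1
    rw [hN, mul_comm]
    exact Nat.mul_dvd_mul_right ((Nat.modEq_zero_iff_dvd).1 hm2) _
  · apply Odd.of_dvd_nat hq
    apply orderOf_dvd_of_pow_eq_one
    rw [← pow_mul]
    apply orderOf_dvd_iff_pow_eq_one.1
    rw [hN]
    exact Nat.mul_dvd_mul_right ((Nat.modEq_zero_iff_dvd).1 hn1) _
  · rw [← pow_add]
    conv_lhs => rw [← pow_one e]
    rw [pow_eq_pow_iff_modEq, hN]
    refine ((Nat.modEq_and_modEq_iff_modEq_mul hc).1 ⟨?_, ?_⟩).symm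
    · simpa using hm1.add hn1
    · simpa using hm2.add hn2

omit [Finite G] in
private theorem Inv.odd_pow {u x : G} (h : Inv u x) {n : ℕ} (hn : Odd n) : Inv (u ^ n) x := by
  obtain ⟨m, rfl⟩ := hn
  rw [pow_succ, pow_mul, sq]
  exact (h.mul_C (pow_mem (h.mul_inv h) m)).2

/-- a real element is inverted by a 2-element -/
theorem Inv.tw {u x : G} (h : Inv u x) : ∃ n : ℕ, Odd n ∧ Tw (u ^ n) ∧ Inv (u ^ n) x := by
  obtain ⟨t, q, hq, hN⟩ := Nat.exists_eq_two_pow_mul_odd (orderOf_pos u).ne'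
  refine ⟨q, hq, ⟨t, ?_⟩, h.odd_pow hq⟩
  rw [← pow_mul, mul_comm, ← hN, pow_orderOf_eq_one]

/-- an inverted 2-element outside `Z0` has a power in `W` -/
theorem exists_W_pow {u j : G} (hj : Tw j) (hu : Inv u j) (hz : j ∉ Z0 G) : ∃ n : ℕ, W (j ^ n) := by
  obtain ⟨t, ht⟩ := hj
  induction t generalizing j with
  | zero => exact absurd (by rw [pow_zero, pow_one] at ht; rw [ht]; exact one_mem _) hz
  | succ t ih =>
    by_cases h2 : j * j ∈ Z0 G
    · exact ⟨1, by rw [pow_one]; exact ⟨⟨u, hu⟩, fun hc => hz (hu.z0 hc), h2⟩⟩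
    · obtain ⟨n, hn⟩ := ih (j := j ^ 2) (hu.pow 2) (by rwa [sq]) (by rw [← pow_mul, ← pow_succ', ht])
      exact ⟨2 * n, by rwa [pow_mul]⟩

theorem sup_zp {P : Subgroup G} (hP : IsPGroup 2 P) {y : G} (hy : Tw y)
    (hn : y ∈ normalizer (P : Set G)) : IsPGroup 2 ↥(P ⊔ zpowers y) :=
  IsPGroup.to_sup_of_normal_left' hP hy.zp (by rwa [zpowers_le])

/-- normalisers grow in 2-groups -/
theorem exists_norm {R S : Subgroup G} (hS : IsPGroup 2 S) (hlt : R < S) :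
    ∃ g ∈ S, g ∉ R ∧ g * g ∈ R ∧ g ∈ normalizer (R : Set G) := by
  haveI : Fact (Nat.Prime 2) := ⟨Nat.prime_two⟩
  have hnil : Group.IsNilpotent S := hS.isNilpotent
  have hnc := Group.normalizerCondition_of_isNilpotent (G := S)
  have hlt' : R.subgroupOf S < ⊤ := by
    rw [lt_top_iff_ne_top, Ne, subgroupOf_eq_top]
    exact fun h => hlt.not_ge h
  obtain ⟨⟨g, hgS⟩, hg, hgR⟩ := SetLike.exists_of_lt (hnc _ hlt')
  have hgn : g ∈ normalizer (R : Set G) := by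
    rw [mem_normalizer_iff] at hg ⊢
    intro h
    constructor
    · intro hh
      exact (hg ⟨h, hlt.le hh⟩).1 hh
    · intro hh
      have hS' : h ∈ S := by
        have : h = g⁻¹ * (g * h * g⁻¹) * g := by group
        rw [this]
        exact mul_mem (mul_mem (inv_mem hgS) (hlt.le hh)) hgS
      exact (hg ⟨h, hS'⟩).2 hh
  have hgR' : g ∉ R := hgR
  obtain ⟨t, ht⟩ := tw_of_mem hS hgS
  clear hg hgR hlt'
  induction t generalizing g with
  | zero => exact absurd (by rw [pow_zero, pow_one] at ht; rw [ht]; exact one_mem _) hgR'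
  | succ t ih =>
    by_cases h2 : g * g ∈ R
    · exact ⟨g, hgS, hgR', h2, hgn⟩
    · exact ih (g * g) (mul_mem hgS hgS) (mul_mem hgn hgn) h2 (by rw [← sq, ← pow_mul, ← pow_succ', ht])

theorem z0_le_syl (S : Sylow 2 G) : Z0 G ≤ S :=
  haveI : Fact (Nat.Prime 2) := ⟨Nat.prime_two⟩
  z0_two.le_sylow_of_normal S

theorem card_Cs {x u : G} {H : Subgroup G} (x2 : x * x ≠ 1) (hu : Inv u x) (huH : u ∈ H) :
    Nat.card ↥(H ⊓ Cs x) = 2 * Nat.card ↥(H ⊓ C x) := by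
  have hle : H ⊓ C x ≤ H ⊓ Cs x := inf_le_inf_left _ (C_le_Cs x)
  have hnot : ∀ g, Inv g x → g ∉ C x := by
    intro g hg hc
    apply x2
    unfold Inv at hg
    rw [mem_C'.1 hc] at hg
    nth_rewrite 1 [hg]; simp
  have hi : ((H ⊓ C x).subgroupOf (H ⊓ Cs x)).index = 2 := by
    rw [index_eq_two_iff]
    refine ⟨⟨u, huH, Or.inr hu⟩, fun b => ?_⟩
    rcases b with ⟨b, hbH, hb | hb⟩
    · have hb' := mem_C'.2 hb
      exact Or.inr ⟨⟨hbH, hb'⟩, fun h => hnot _ (hu.mul_C hb').2 h.2⟩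
    · exact Or.inl ⟨⟨mul_mem hbH huH, hb.mul_inv hu⟩, fun h => hnot _ hb h.2⟩
  have := card_mul_index ((H ⊓ C x).subgroupOf (H ⊓ Cs x))
  rw [hi, Nat.card_congr (subgroupOfEquivOfLe hle).toEquiv] at this
  omega

theorem Hyp.card_dvd (h : Hyp G a k) {x : G} (hr : Re x) (hc : x ∉ center G) {P : Subgroup G}
    (hP : IsPGroup 2 P) (hle : P ≤ C x) : Nat.card P ∣ 2 ^ k := by
  haveI : Fact (Nat.Prime 2) := ⟨Nat.prime_two⟩
  obtain ⟨n, hn⟩ := IsPGroup.iff_card.1 hP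
  rw [hn]
  apply pow_dvd_pow
  by_contra hlt
  apply h.ndvd x hr hc
  exact (pow_dvd_pow 2 (by omega)).trans (hn ▸ card_dvd_of_le hle)

/-- a subgroup of order `2^k` of `C x` is a maximal 2-subgroup -/
theorem Hyp.eq_of_le (h : Hyp G a k) {x : G} (hr : Re x) (hc : x ∉ center G) {T P : Subgroup G}
    (hT : Nat.card T = 2 ^ k) (hP : IsPGroup 2 P) (hTP : T ≤ P) (hle : P ≤ C x) : P = T := by
  refine (eq_of_le_of_card_ge hTP ?_).symm
  rw [hT]
  exact Nat.le_of_dvd (by positivity) (h.card_dvd hr hc hP hle)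

theorem Hyp.mem_of_norm (h : Hyp G a k) {x : G} (hr : Re x) (hc : x ∉ center G) {T : Subgroup G}
    (hT : Nat.card T = 2 ^ k) (hle : T ≤ C x) {y : G} (hy : Tw y) (hyx : y ∈ C x)
    (hn : y ∈ normalizer (T : Set G)) : y ∈ T := by
  have := h.eq_of_le hr hc hT (sup_zp (IsPGroup.of_card hT) hy hn) le_sup_left
    (sup_le hle (by rwa [zpowers_le]))
  rw [← this]
  exact mem_sup_right (mem_zpowers y)

private theorem exists_syl {H P : Subgroup G} (hP : IsPGroup 2 P) (hle : P ≤ H) :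
    ∃ T : Subgroup G, IsPGroup 2 T ∧ P ≤ T ∧ T ≤ H ∧ Nat.card T = 2 ^ (Nat.card H).factorization 2 := by
  haveI : Fact (Nat.Prime 2) := ⟨Nat.prime_two⟩
  obtain ⟨Q, hQ⟩ := (hP.comap_subtype (K := H)).exists_le_sylow
  refine ⟨(Q : Subgroup H).map H.subtype, Q.isPGroup'.map _, fun p hp => ⟨⟨p, hle hp⟩, hQ hp, rfl⟩,
    map_subtype_le _, ?_⟩
  rw [card_map_of_injective H.subtype_injective, Sylow.card_eq_multiplicity]

private theorem fact_eq {n k : ℕ} (hn : n ≠ 0) (h1 : 2 ^ k ∣ n) (h2 : ¬ 2 ^ (k + 1) ∣ n) :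
    n.factorization 2 = k := by
  rw [Nat.prime_two.pow_dvd_iff_le_factorization hn] at h1 h2
  omega

theorem Hyp.exists_T (h : Hyp G a k) {x : G} (hr : Re x) (hc : x ∉ center G) {P : Subgroup G}
    (hP : IsPGroup 2 P) (hle : P ≤ C x) :
    ∃ T : Subgroup G, IsPGroup 2 T ∧ P ≤ T ∧ T ≤ C x ∧ Nat.card T = 2 ^ k := by
  obtain ⟨T, h1, h2, h3, h4⟩ := exists_syl hP hle
  exact ⟨T, h1, h2, h3, by rw [h4, fact_eq Nat.card_pos.ne' (h.dvd x hr hc) (h.ndvd x hr hc)]⟩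

theorem Hyp.exists_R (h : Hyp G a k) {x : G} (hr : Re x) (hc : x ∉ center G) (x2 : x * x ≠ 1)
    {P : Subgroup G} (hP : IsPGroup 2 P) (hle : P ≤ Cs x) :
    ∃ R : Subgroup G, IsPGroup 2 R ∧ P ≤ R ∧ R ≤ Cs x ∧ Nat.card ↥(R ⊓ C x) = 2 ^ k ∧
      Nat.card R = 2 ^ (k + 1) := by
  obtain ⟨R, h1, h2, h3, h4⟩ := exists_syl hP hle
  obtain ⟨u, hu⟩ := id hr
  have hcs := card_Cs x2 hu (mem_top u)
  rw [top_inf_eq, top_inf_eq] at hcs
  have hR : Nat.card R = 2 ^ (k + 1) := by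
    rw [h4, fact_eq (k := k + 1) Nat.card_pos.ne']
    · rw [hcs, pow_succ']; exact Nat.mul_dvd_mul_left _ (h.dvd x hr hc)
    · rw [hcs, pow_succ']; exact fun hd => h.ndvd x hr hc (Nat.dvd_of_mul_dvd_mul_left two_pos hd)
  refine ⟨R, h1, h2, h3, ?_, hR⟩
  by_cases hRC : R ≤ C x
  · have := Nat.le_of_dvd (by positivity) (h.card_dvd hr hc h1 hRC)
    rw [hR, pow_succ] at this
    have : 0 < 2 ^ k := by positivity
    omega
  · obtain ⟨v, hvR, hv⟩ := SetLike.not_le_iff_exists.1 hRC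
    have hv' : Inv v x := (h3 hvR).resolve_left fun e => hv (mem_C'.2 e)
    have := card_Cs x2 hv' hvR
    rw [inf_eq_left.2 h3, hR, pow_succ] at this
    omega

/-- K2 -/
theorem Hyp.k2 (h : Hyp G a k) {x y u : G} (x2 : x * x ≠ 1) (hu : Inv u x) (huy : u ∈ C y)
    (hr : Re y) (hc : y ∉ center G) (hd : 2 ^ k ∣ Nat.card ↥(C x ⊓ C y)) : False := by
  apply h.ndvd y hr hc
  have := card_Cs x2 hu huy
  refine Dvd.dvd.trans ?_ (card_dvd_of_le (inf_le_left : C y ⊓ Cs x ≤ C y))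
  rw [this, pow_succ', inf_comm]
  exact Nat.mul_dvd_mul_left _ hd

theorem C_mul {x j : G} (hx : Odd (orderOf x)) (hj : Tw j) (hc : j ∈ C x) : C (x * j) = C x ⊓ C j := by
  have hcm : Commute x j := (mem_C.1 hc).symm
  apply le_antisymm
  · intro g hg
    have hg' : Commute g (x * j) := mem_C.1 hg
    obtain ⟨t, ht⟩ := hj
    have hcp : Nat.Coprime (2 ^ t) (orderOf x) := Nat.Coprime.pow_left _ (Nat.coprime_two_left.2 hx)
    obtain ⟨n, hn1, hn2⟩ := Nat.chineseRemainder hcp 0 1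
    have e : (x * j) ^ n = x := by
      obtain ⟨m, rfl⟩ := (Nat.modEq_zero_iff_dvd).1 hn1
      rw [hcm.mul_pow, pow_mul j, ht, one_pow, mul_one]
      conv_rhs => rw [← pow_one x]
      exact pow_eq_pow_iff_modEq.2 hn2
    have hgx : Commute g x := e ▸ hg'.pow_right n
    refine ⟨mem_C.2 hgx, mem_C.2 ?_⟩
    have : Commute g (x⁻¹ * (x * j)) := hgx.inv_right.mul_right hg'
    rwa [inv_mul_cancel_left] at this
  · rintro g ⟨h1, h2⟩
    exact mem_C.2 ((show Commute g x from mem_C.1 h1).mul_right (show Commute g j from mem_C.1 h2))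

/-- F3: simultaneous inversion -/
theorem Hyp.f3 (h : Hyp G a k) {x j u : G} (hx : Odd (orderOf x)) (x1 : x ≠ 1) (hj : Tw j) (hc : j ∈ C x)
    (hu : Inv u x) (huj : Inv u j) :
    ∃ T : Subgroup G, IsPGroup 2 T ∧ T ≤ C x ∧ T ≤ C j ∧ Nat.card T = 2 ^ k := by
  have hi : Inv u (x * j) := by
    unfold Inv at hu huj ⊢
    calc u * (x * j) * u⁻¹ = (u * x * u⁻¹) * (u * j * u⁻¹) := by group
      _ = (j * x)⁻¹ := by rw [hu, huj, mul_inv_rev]
      _ = (x * j)⁻¹ := by rw [mem_C.1 hc]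
  have hC := C_mul hx hj hc
  have hnc : x * j ∉ center G := by
    intro hz
    apply odd_nc hx x1 ⟨u, hu⟩
    rw [mem_center_iff]
    intro g
    have : g ∈ C (x * j) := mem_C.2 (mem_center_iff.1 hz g)
    rw [hC] at this
    exact mem_C.1 this.1
  obtain ⟨T, h1, -, h3, h4⟩ := h.exists_T ⟨u, hi⟩ hnc (P := ⊥) IsPGroup.of_bot bot_le
  rw [hC] at h3
  exact ⟨T, h1, h3.trans inf_le_left, h3.trans inf_le_right, h4⟩

/-- an involution centralising `x` and an inverter of `x` is central -/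
theorem Hyp.b1 (h : Hyp G a k) {x u y : G} (hx : Odd (orderOf x)) (x1 : x ≠ 1) (hu : Inv u x)
    (y2 : y * y = 1) (hyx : y ∈ C x) (huy : u ∈ C y) : y ∈ Z0 G := by
  have yi : y⁻¹ = y := inv_eq_of_mul_eq_one_right y2
  by_contra hz
  have huy' : Inv u y := by unfold Inv; rw [mem_C'.1 huy, yi]
  obtain ⟨T, -, h2, h3, h4⟩ := h.f3 hx x1 ⟨1, by rw [pow_one, sq, y2]⟩ hyx hu huy'
  exact h.k2 (odd_sq_ne hx x1) hu huy ⟨u, huy'⟩ (fun hc => hz ⟨hc, y2⟩)
    (h4 ▸ card_dvd_of_le (le_inf h2 h3))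

omit [Finite G] in
theorem Dw.self (w : G) : w ∈ Dw w := ⟨1, 1, one_mem _, by simp⟩

omit [Finite G] in
theorem Dw.conj {w v : G} (hv : v ∈ Dw w) (g : G) : g * v * g⁻¹ ∈ Dw w := by
  obtain ⟨h, ζ, hζ, rfl⟩ := hv
  refine ⟨g * h, ζ, hζ, ?_⟩
  calc g * (h * w * h⁻¹ * ζ) * g⁻¹ = g * (h * w * h⁻¹) * (ζ * g⁻¹) := by group
    _ = g * h * w * (g * h)⁻¹ * ζ := by rw [z0_comm hζ]; group

omit [Finite G] in
theorem Dw.mul_z {w v ζ : G} (hv : v ∈ Dw w) (hζ : ζ ∈ Z0 G) : v * ζ ∈ Dw w := by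
  obtain ⟨h, ζ', hζ', rfl⟩ := hv
  exact ⟨h, ζ' * ζ, mul_mem hζ' hζ, by group⟩

omit [Finite G] in
private theorem Dw.sub {w v : G} (hv : v ∈ Dw w) : Dw v ⊆ Dw w := by
  rintro _ ⟨g, ζ, hζ, rfl⟩
  exact Dw.mul_z (Dw.conj hv g) hζ

omit [Finite G] in
theorem Dw.eq {w v : G} (hv : v ∈ Dw w) : Dw v = Dw w := by
  refine Set.Subset.antisymm (Dw.sub hv) (Dw.sub ?_)
  obtain ⟨g, ζ, hζ, rfl⟩ := hv
  refine ⟨g⁻¹, ζ⁻¹, inv_mem hζ, ?_⟩
  calc w = g⁻¹ * (g * w * g⁻¹) * g * ζ * ζ⁻¹ := by group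
    _ = g⁻¹ * (g * w * g⁻¹) * (g * ζ) * ζ⁻¹ := by group
    _ = _ := by rw [← z0_comm hζ g]; group

omit [Finite G] in
theorem Dw.sq {w v : G} (hw : w * w ∈ Z0 G) (hv : v ∈ Dw w) : v * v = w * w := by
  obtain ⟨g, ζ, hζ, rfl⟩ := hv
  calc g * w * g⁻¹ * ζ * (g * w * g⁻¹ * ζ) = g * w * g⁻¹ * (ζ * (g * w * g⁻¹)) * ζ := by group
    _ = g * (w * w) * g⁻¹ * (ζ * ζ) := by rw [z0_comm hζ]; group
    _ = w * w := by rw [z0_conj hw, z0_sq hζ, mul_one]

omit [Finite G] in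
theorem W.dw {w v : G} (hw : W w) (hv : v ∈ Dw w) : W v := by
  refine ⟨?_, ?_, by rw [Dw.sq hw.sq hv]; exact hw.sq⟩
  · obtain ⟨g, ζ, hζ, rfl⟩ := hv
    obtain ⟨u, hu⟩ := hw.re
    refine ⟨g * u * g⁻¹, ?_⟩
    have := hu.conj g
    unfold Inv at this ⊢
    calc g * u * g⁻¹ * (g * w * g⁻¹ * ζ) * (g * u * g⁻¹)⁻¹
        = g * u * g⁻¹ * (g * w * g⁻¹) * (ζ * (g * u * g⁻¹)⁻¹) := by group
      _ = g * u * g⁻¹ * (g * w * g⁻¹) * (g * u * g⁻¹)⁻¹ * ζ := by rw [z0_comm hζ]; group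
      _ = (g * w * g⁻¹ * ζ)⁻¹ := by rw [this, mul_inv_rev (g * w * g⁻¹), z0_inv hζ, z0_comm hζ]
  · obtain ⟨g, ζ, hζ, rfl⟩ := hv
    intro hc
    apply hw.nc
    have h1 : g * w * g⁻¹ ∈ center G := by
      have := mul_mem hc (inv_mem hζ.1)
      rwa [mul_inv_cancel_right] at this
    have := (inferInstance : (center G).Normal).conj_mem _ h1 g⁻¹
    simpa [mul_assoc] using this

omit [Finite G] in
theorem W.tw {w : G} (hw : W w) : Tw w :=
  ⟨2, by rw [← z0_sq hw.sq]; simp [pow_succ, mul_assoc]⟩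

omit [Finite G] in
theorem lam_mul_z {w ζ : G} (hζ : ζ ∈ Z0 G) (g : G) : lam (w * ζ) g = lam w g := by
  unfold lam
  calc g * (w * ζ) * g⁻¹ * (w * ζ)⁻¹ = g * w * (ζ * g⁻¹) * ζ⁻¹ * w⁻¹ := by group
    _ = g * w * g⁻¹ * w⁻¹ := by rw [z0_comm hζ]; group

omit [Finite G] in
theorem M_eq {w v : G} (h : v * w⁻¹ ∈ Z0 G) : M v = M w ∧ C v = C w := by
  have e : v = w * (v * w⁻¹) := by rw [← z0_comm h]; group
  have hl : ∀ g, lam v g = lam w g := fun g => by rw [e, lam_mul_z h]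
  constructor
  · ext g; rw [mem_M, mem_M, hl]
  · ext g; rw [← lam_eq_one, ← lam_eq_one, hl]

omit [Finite G] in
private theorem lam_cj (w s g : G) : lam (g * w * g⁻¹) (g * s * g⁻¹) = g * lam w s * g⁻¹ := by
  unfold lam; group

omit [Finite G] in
theorem mem_M_conj {w s : G} (g : G) : g * s * g⁻¹ ∈ M (g * w * g⁻¹) ↔ s ∈ M w := by
  rw [mem_M, mem_M, lam_cj]
  refine ⟨fun h => ?_, fun h => by rw [z0_conj h]; exact h⟩
  have := z0_normal.conj_mem _ h g⁻¹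
  simpa [mul_assoc] using this

omit [Finite G] in
theorem lam_conj {w s : G} (hs : s ∈ M w) (g : G) : lam (g * w * g⁻¹) (g * s * g⁻¹) = lam w s := by
  rw [lam_cj, z0_conj hs]

omit [Finite G] in
theorem lam_mul_left {w v s : G} (hw : s ∈ M w) (hv : s ∈ M v) : lam (w * v) s = lam w s * lam v s := by
  have hv' : lam v s ∈ Z0 G := hv
  have e : lam (w * v) s = lam w s * (w * lam v s * w⁻¹) := by unfold lam; group
  rw [e, z0_conj hv']

end H50.RC
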