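import Mathlib
import Cfsg.Agent.Base

/-! Vocabulary for S3860 (real class sizes with equal 2-part). -/

set_option autoImplicit false

namespace H50.RC

open Subgroup

variable {G : Type*} [Group G]

/-- centraliser of one element -/
abbrev C (x : G) : Subgroup G := centralizer ({x} : Set G)

theorem mem_C {x g : G} : g ∈ C x ↔ g * x = x * g := by
  rw [mem_centralizer_singleton_iff]

theorem mem_C' {x g : G} : g ∈ C x ↔ g * x * g⁻¹ = x := by
  rw [mem_C, mul_inv_eq_iff_eq_mul]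

/-- `u` inverts `x` -/
def Inv (u x : G) : Prop := u * x * u⁻¹ = x⁻¹

/-- `x` is real -/
def Re (x : G) : Prop := ∃ u, Inv u x

/-- `y` is a 2-element -/
def Tw (y : G) : Prop := ∃ n : ℕ, y ^ 2 ^ n = 1

theorem Inv.inv {u x : G} (h : Inv u x) : u * x⁻¹ * u⁻¹ = x := by
  have : u * x⁻¹ * u⁻¹ = (u * x * u⁻¹)⁻¹ := by group
  rw [this, h, inv_inv]

theorem Inv.inv_left {u x : G} (h : Inv u x) : Inv u⁻¹ x := by
  unfold Inv
  conv_lhs => rw [← h.inv]
  group

/-- the extended centraliser -/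
def Cs (x : G) : Subgroup G where
  carrier := {g | g * x * g⁻¹ = x ∨ Inv g x}
  one_mem' := Or.inl (by simp)
  mul_mem' := by
    intro a b ha hb
    have e : a * b * x * (a * b)⁻¹ = a * (b * x * b⁻¹) * a⁻¹ := by group
    rcases ha with ha | ha <;> rcases hb with hb | hb
    · exact Or.inl (by rw [e, hb, ha])
    · refine Or.inr ?_
      unfold Inv at hb ⊢
      rw [e, hb]
      conv_rhs => rw [← ha]
      group
    · refine Or.inr ?_
      unfold Inv at ha ⊢
      rw [e, hb, ha]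
    · refine Or.inl ?_
      unfold Inv at hb
      rw [e, hb, ha.inv]
  inv_mem' := by
    intro a ha
    rcases ha with ha | ha
    · refine Or.inl ?_
      conv_lhs => rw [← ha]
      group
    · exact Or.inr ha.inv_left

theorem mem_Cs {x g : G} : g ∈ Cs x ↔ g * x * g⁻¹ = x ∨ Inv g x := Iff.rfl

theorem C_le_Cs (x : G) : C x ≤ Cs x := fun _ h => Or.inl (mem_C'.1 h)

/-- central elements of order at most 2 -/
def Z0 (G : Type*) [Group G] : Subgroup G where
  carrier := {z | z ∈ center G ∧ z * z = 1}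
  one_mem' := ⟨one_mem _, by simp⟩
  mul_mem' := by
    rintro a b ⟨ha, a2⟩ ⟨hb, b2⟩
    refine ⟨mul_mem ha hb, ?_⟩
    have := mem_center_iff.1 ha b
    calc a * b * (a * b) = a * (b * a) * b := by group
      _ = a * (a * b) * b := by rw [this]
      _ = (a * a) * (b * b) := by group
      _ = 1 := by rw [a2, b2, one_mul]
  inv_mem' := by
    rintro a ⟨ha, a2⟩
    exact ⟨inv_mem ha, by rw [← mul_inv_rev, a2, inv_one]⟩

theorem mem_Z0 {z : G} : z ∈ Z0 G ↔ z ∈ center G ∧ z * z = 1 := Iff.rfl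

theorem z0_comm {z : G} (h : z ∈ Z0 G) (g : G) : z * g = g * z := (mem_center_iff.1 h.1 g).symm

theorem z0_conj {z : G} (h : z ∈ Z0 G) (g : G) : g * z * g⁻¹ = z := by
  rw [← z0_comm h, mul_inv_cancel_right]

theorem z0_sq {z : G} (h : z ∈ Z0 G) : z * z = 1 := h.2

theorem z0_inv {z : G} (h : z ∈ Z0 G) : z⁻¹ = z := inv_eq_of_mul_eq_one_right h.2

instance z0_normal : (Z0 G).Normal := ⟨fun z h g => by rw [z0_conj h]; exact h⟩

theorem z0_two : IsPGroup 2 (Z0 G) := fun z => ⟨1, Subtype.ext (by simpa [sq] using z.2.2)⟩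

/-- `lam w g = g w g⁻¹ w⁻¹` -/
def lam (w g : G) : G := g * w * g⁻¹ * w⁻¹

theorem conj_eq (w g : G) : g * w * g⁻¹ = lam w g * w := by simp [lam]

theorem lam_mul' (w a b : G) : lam w (a * b) = a * lam w b * a⁻¹ * lam w a := by
  simp only [lam]; group

/-- the stabiliser of the coset `w Z0` -/
def M (w : G) : Subgroup G where
  carrier := {g | lam w g ∈ Z0 G}
  one_mem' := by simp [lam]
  mul_mem' := by
    intro a b ha hb
    have hb' : lam w b ∈ Z0 G := hb
    change lam w (a * b) ∈ Z0 G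
    rw [lam_mul', z0_conj hb']
    exact mul_mem hb ha
  inv_mem' := by
    intro a ha
    have ha' : lam w a ∈ Z0 G := ha
    change lam w a⁻¹ ∈ Z0 G
    have e : lam w a⁻¹ = a⁻¹ * (lam w a)⁻¹ * a⁻¹⁻¹ := by simp only [lam]; group
    rw [e, z0_conj (inv_mem ha')]
    exact inv_mem ha'

theorem mem_M {w g : G} : g ∈ M w ↔ lam w g ∈ Z0 G := Iff.rfl

theorem lam_mul {w a b : G} (hb : b ∈ M w) : lam w (a * b) = lam w b * lam w a := by
  rw [lam_mul', z0_conj hb]

theorem lam_eq_one {w g : G} : lam w g = 1 ↔ g ∈ C w := by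
  rw [mem_C', lam, mul_inv_eq_one]

theorem C_le_M (w : G) : C w ≤ M w := fun _ h => by
  rw [mem_M, lam_eq_one.2 h]; exact one_mem _

theorem Z0_le_C (w : G) : Z0 G ≤ C w := fun _ h => mem_C.2 (z0_comm h w)

theorem self_mem_C (w : G) : w ∈ C w := mem_C.2 rfl

theorem lam_symm (w g : G) : lam g w = (lam w g)⁻¹ := by simp only [lam]; group

theorem M_symm {w g : G} (h : g ∈ M w) : w ∈ M g := by
  rw [mem_M, lam_symm]; exact inv_mem h

theorem lam_symm' {w g : G} (h : g ∈ M w) : lam g w = lam w g := by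
  rw [lam_symm, z0_inv h]

/-- real, not central, square in `Z0` -/
structure W (w : G) : Prop where
  re : Re w
  nc : w ∉ center G
  sq : w * w ∈ Z0 G

/-- conjugates of `w` times elements of `Z0` -/
def Dw (w : G) : Set G := {v | ∃ g : G, ∃ ζ ∈ Z0 G, v = g * w * g⁻¹ * ζ}

/-- the standing hypothesis: `O(G) = 1`, `|G|₂ = 2^(a+k)`, `|C(x)|₂ = 2^k` for real non-central `x`. -/
structure Hyp (G : Type*) [Group G] (a k : ℕ) : Prop where
  odd : ∀ N : Subgroup G, N.Normal → Odd (Nat.card N) → N = ⊥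
  syl : ∀ S : Sylow 2 G, Nat.card S = 2 ^ (a + k)
  dvd : ∀ x : G, Re x → x ∉ center G → 2 ^ k ∣ Nat.card (C x)
  ndvd : ∀ x : G, Re x → x ∉ center G → ¬ 2 ^ (k + 1) ∣ Nat.card (C x)

/-- a normal subgroup centralising `O₂(G)` and inside `O²(G)` -/
structure Good (E : Subgroup G) : Prop where
  normal : E.Normal
  cen : ∀ Q : Subgroup G, Q.Normal → IsPGroup 2 Q → ∀ q ∈ Q, ∀ e ∈ E, q * e = e * q
  idx : ∀ H : Subgroup G, H.index = 2 → E ≤ H

/-- a configuration: `w ∈ S` inverts the odd element `x ≠ 1`, `S ≤ C*(x)` -/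
structure Cf (w x : G) (S : Sylow 2 G) : Prop where
  odd : Odd (orderOf x)
  ne : x ≠ 1
  inv : Inv w x
  le : (S : Subgroup G) ≤ Cs x
  mem : w ∈ (S : Subgroup G)

/-- `T = C_S(x)` -/
def Tc (x : G) (S : Sylow 2 G) : Subgroup G := (S : Subgroup G) ⊓ C x

/-- `A = C_S(x) ∩ C(w)` -/
def Ac (w x : G) (S : Sylow 2 G) : Subgroup G := (S : Subgroup G) ⊓ C x ⊓ C w

/-- the four-group `⟨j, w⟩A/A` has its three involutions fused in `N(A)/A` -/
def Fu (w x : G) (S : Sylow 2 G) : Prop :=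
  ∃ j ∈ Tc x S, j ∉ Ac w x S ∧ j * j ∈ Ac w x S ∧
    (∃ g ∈ normalizer (Ac w x S : Set G), g * w * g⁻¹ * j⁻¹ ∈ Ac w x S) ∧
    ∃ g ∈ normalizer (Ac w x S : Set G), g * w * g⁻¹ * (j * w)⁻¹ ∈ Ac w x S

/-- the hypothesis of the statement -/
def Orig (G : Type*) [Group G] (a : ℕ) : Prop :=
  ∀ x : G, IsConj x x⁻¹ → x ∉ center G → ((centralizer ({x} : Set G)).index).factorization 2 = a

end H50.RC
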