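import Cfsg.Agent.Lib.RCS.VD1
import Cfsg.Agent.S0205
import Cfsg.Agent.Lib.RCS.LZ
import Cfsg.Agent.Lib.LocStruct.SylowIn
import Cfsg.Agent.Lib.Core.PCore

set_option autoImplicit false

namespace H50.RC

open Subgroup

variable {G : Type*} [Group G] [Finite G] {a k : ℕ}

namespace VD2

universe u

/-- the hypotheses of the dihedral lemma -/
structure DH (P : Sylow 2 G) (v j r : G) : Prop where
  hv : v ∈ (P : Subgroup G)
  hr : r ∈ (P : Subgroup G)
  hP : ∀ p ∈ (P : Subgroup G), p ∈ zpowers r ∨ p * v⁻¹ ∈ zpowers r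
  v2 : v * v = 1
  hvr : v ∉ zpowers r
  hi : Inv v r
  hj : j ∈ zpowers r
  j1 : j ≠ 1
  j2 : j * j = 1
  c1 : IsConj v j
  c2 : IsConj v (j * v)
  hp : ∀ y t : G, Odd (orderOf y) → y ≠ 1 → IsConj v t → Inv t y → ∃ t', IsConj v t' ∧ t' ∈ C y

omit [Finite G] in
theorem sq_of_conj {v t : G} (v2 : v * v = 1) (c : IsConj v t) : t * t = 1 := by
  obtain ⟨g, rfl⟩ := isConj_iff.1 c
  rw [conj_mul, v2]; simp

omit [Finite G] in
theorem mem_of_conj {L : Subgroup G} (hL : L.Normal) {v t : G} (c : IsConj v t) (m : v ∈ L) : t ∈ L := by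
  obtain ⟨g, rfl⟩ := isConj_iff.1 c
  exact hL.conj_mem v m g

omit [Finite G] in
theorem sq_of_inv {t n : G} (i : Inv t n) (m : t ∈ C n) : n * n = 1 :=
  mul_eq_one_iff_eq_inv.2 ((mem_C'.1 m).symm.trans i)

omit [Finite G] in
theorem prod {t y : G} (t2 : t * t = 1) (hy : Odd (orderOf y)) (i : Inv t y) :
    ∃ c : G, y = t * (c * t * c⁻¹) := by
  obtain ⟨l, hl⟩ := hy
  have e := (i.pow (l + 1)).inv
  refine ⟨(y ^ (l + 1))⁻¹, ?_⟩
  have e1 : y ^ (l + 1) * y ^ (l + 1) = y := by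
    rw [← pow_add, show l + 1 + (l + 1) = 2 * l + 1 + 1 by ring, ← hl, pow_succ, pow_orderOf_eq_one,
      one_mul]
  rw [inv_eq_of_mul_eq_one_right t2] at e
  calc y = t * (y ^ (l + 1))⁻¹ * t * y ^ (l + 1) := by rw [e, e1]
    _ = _ := by group

theorem odd_mem {N : Subgroup G} (hN : Odd (Nat.card N)) {n : G} (hn : n ∈ N) : Odd (orderOf n) :=
  hN.of_dvd_nat (N.orderOf_dvd_natCard hn)

namespace DH
variable {P : Sylow 2 G} {v j r : G} (d : DH P v j r)
include d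

omit [Finite G] in
theorem inv {ρ : G} (h : ρ ∈ zpowers r) : Inv v ρ := by
  obtain ⟨n, rfl⟩ := h
  change v * r ^ n * v⁻¹ = (r ^ n)⁻¹
  rw [← conj_zpow, d.hi, inv_zpow]

theorem uniq {ρ : G} (h : ρ ∈ zpowers r) (h2 : ρ * ρ = 1) : ρ = 1 ∨ ρ = j := by
  classical
  by_contra n
  push Not at n
  haveI := Fintype.ofFinite (zpowers r)
  have k := IsCyclic.card_pow_eq_one_le (α := zpowers r) (n := 2) two_pos
  have : ({1, ⟨j, d.hj⟩, ⟨ρ, h⟩} : Finset (zpowers r)) ⊆
      Finset.univ.filter fun a => a ^ 2 = 1 := by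
    intro a ha
    simp only [Finset.mem_insert, Finset.mem_singleton] at ha
    rcases ha with rfl | rfl | rfl
    · simp
    · simpa [sq, Subtype.ext_iff] using d.j2
    · simpa [sq, Subtype.ext_iff] using h2
  have c := (Finset.card_le_card this).trans k
  rw [Finset.card_eq_three.2 ⟨_, _, _, fun e => d.j1 (congrArg Subtype.val e).symm,
    fun e => n.1 (congrArg Subtype.val e).symm, fun e => n.2 (congrArg Subtype.val e).symm, rfl⟩] at c
  omega

theorem j_mem {L : Subgroup G} (n : ℕ) :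
    ∀ {ρ : G}, ρ ∈ zpowers r → ρ ∈ L → ρ ≠ 1 → ρ ^ 2 ^ n = 1 → j ∈ L := by
  induction n with
  | zero => exact fun _ _ h e => absurd (by simpa using e) h
  | succ n ih =>
    intro ρ h1 h2 h3 e
    by_cases k : ρ * ρ = 1
    · exact (d.uniq h1 k).resolve_left h3 ▸ h2
    · exact ih (mul_mem h1 h1) (mul_mem h2 h2) k (by rwa [← sq, ← pow_mul, ← pow_succ'])

theorem mem_normal {L : Subgroup G} (hL : L.Normal) {p : G} (h1 : p ∈ L) (h2 : p ∈ (P : Subgroup G))
    (h3 : p ≠ 1) : v ∈ L := by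
  have k : ∀ ρ ∈ zpowers r, ρ ∈ L → ρ ≠ 1 → v ∈ L := fun ρ a b c => by
    obtain ⟨n, e⟩ := tw_of_mem P.isPGroup' (zpowers_le.2 d.hr a)
    exact mem_of_conj hL d.c1.symm (d.j_mem n a b c e)
  rcases d.hP p h2 with a | a
  · exact k p a h1 h3
  by_cases r2 : r * r = 1
  · have : p * v⁻¹ * (p * v⁻¹) = 1 := by
      obtain ⟨n, e⟩ := a
      rw [← e, ← (Commute.refl r).mul_zpow, r2, one_zpow]
    rcases d.uniq a this with e | e
    · exact mul_inv_eq_one.1 e ▸ h1
    · exact mem_of_conj hL d.c2.symm (mul_inv_eq_iff_eq_mul.1 e ▸ h1)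
  · refine k (r * r) (mul_mem (mem_zpowers r) (mem_zpowers r)) ?_ r2
    have c : Commute (p * v⁻¹) r := by
      obtain ⟨n, e⟩ := a
      rw [← e]; exact Commute.zpow_self r n
    have e : p * r * p⁻¹ = r⁻¹ := by
      calc _ = p * v⁻¹ * (v * r * v⁻¹) * (p * v⁻¹)⁻¹ := by group
        _ = _ := by rw [d.hi, c.inv_right.eq, mul_inv_cancel_right]
    have e' : r * r = r * p * r⁻¹ * p⁻¹ := by
      calc _ = r * (p * r * p⁻¹)⁻¹ := by rw [e, inv_inv]
        _ = _ := by group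
    rw [e']
    exact mul_mem (hL.conj_mem p h1 r) (inv_mem h1)

theorem caseB (hO : ∀ N : Subgroup G, N.Normal → Odd (Nat.card N) → N = ⊥) {y : G}
    (hy : Odd (orderOf y)) (y1 : y ≠ 1) (hvy : Inv v y) : False := by
  let N : Subgroup G := normalClosure {v}
  have nN : N.Normal := inferInstance
  have vN : v ∈ N := subset_normalClosure rfl
  have hv' : v ∈ ⁅N, N⁆ := by
    by_contra n
    have sy := (H69.isSylowIn_top P).inf_normal (N := ⁅N, N⁆) le_top
      (normalizer_eq_top_iff.2 inferInstance).ge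
    have e : (P : Subgroup G) ⊓ ⁅N, N⁆ = ⊥ := eq_bot_iff.2 fun p hp => by
      by_contra k
      exact n (d.mem_normal inferInstance hp.2 hp.1 k)
    have o : Odd (Nat.card (⁅N, N⁆ : Subgroup G)) := by
      rw [← Nat.not_even_iff_odd, even_iff_two_dvd, sy.dvd_card_iff]
      exact fun k => k e
    have b := hO _ inferInstance o
    have m : y * y ∈ N := by
      have : y * y = y * v * y⁻¹ * v⁻¹ := by
        calc _ = y * (v * y⁻¹ * v⁻¹) := by rw [hvy.inv]
          _ = _ := by group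
      rw [this]
      exact mul_mem (nN.conj_mem v vN y) (inv_mem vN)
    have cm : v ∈ C (y * y) := mem_C.2 (mem_centralizer_iff.1
      (commutator_eq_bot_iff_le_centralizer.1 b m) v vN)
    have i2 : Inv v (y * y) := by simpa [sq] using hvy.pow 2
    refine odd_sq_ne (hy.of_dvd_nat ?_) (odd_sq_ne hy y1) (sq_of_inv i2 cm)
    simpa [sq] using orderOf_pow_dvd (x := y) 2
  haveI : Group.IsPerfect N := Subgroup.isPerfect_iff.2 (le_antisymm
    (H69.commutator_le_of_le le_rfl le_rfl) (normalClosure_le_normal (by simpa using hv')))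
  have hO' : ∀ L : Subgroup N, L.Normal → Odd (Nat.card L) → L = ⊥ := fun L hL o => by
    have a : L ≤ Cfsg.pPrimeCore 2 N := H1.le_pPrimeCore (Nat.coprime_two_right.2 o)
    have b := (map_mono (f := N.subtype) a).trans (H1.map_subtype_pPrimeCore_le N)
    rw [hO (Cfsg.pPrimeCore 2 G) inferInstance (Nat.coprime_two_right.1 H1.coprime_card_pPrimeCore),
      le_bot_iff] at b
    exact H69.map_subtype_eq_bot_iff.1 b
  obtain ⟨P', hP'⟩ := ((H69.isSylowIn_top P).inf_normal (N := N) le_top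
    (normalizer_eq_top_iff.2 nN).ge).exists_sylow_subgroupOf
  have mP : ∀ {p : N}, p ∈ (P' : Subgroup N) ↔ (p : G) ∈ (P : Subgroup G) := fun {p} => by
    rw [hP', mem_subgroupOf]; exact ⟨fun k => k.1, fun k => ⟨k, p.2⟩⟩
  obtain ⟨⟨r', rN, rr⟩, hr'⟩ : ∃ g : ↥(N ⊓ zpowers r), ∀ x, x ∈ zpowers g :=
    (isCyclic_of_le (inf_le_right : N ⊓ zpowers r ≤ zpowers r)).exists_generator
  have mz : ∀ {p : N}, p ∈ zpowers (⟨r', rN⟩ : N) ↔ (p : G) ∈ zpowers r := fun {p} =>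
    ⟨fun ⟨n, e⟩ => by rw [← e]; exact Subgroup.zpow_mem _ rr n, fun k => by
      obtain ⟨n, e⟩ := hr' ⟨p, p.2, k⟩
      exact ⟨n, Subtype.ext (by simpa using congrArg Subtype.val e)⟩⟩
  obtain ⟨y', t, o, n1, ct, it, oc⟩ := vd_perf hO' P' (v := ⟨v, vN⟩) (r := ⟨r', rN⟩) (mP.2 d.hv)
    (mP.2 (zpowers_le.2 d.hr rr)) (fun e => by
      have := (mz (p := ⟨j, mem_of_conj nN d.c1 vN⟩)).2 d.hj
      rw [e, zpowers_one_eq_bot, mem_bot] at this
      exact d.j1 (congrArg Subtype.val this))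
    (fun p hp => (d.hP p (mP.1 hp)).imp mz.2 fun k => mz.2 k) (Subtype.ext d.v2)
    (fun k => d.hvr (mz.1 k)) (Subtype.ext (d.inv rr))
  obtain ⟨t', c', m⟩ := d.hp y' t (by rwa [orderOf_coe]) (fun e => n1 (Subtype.ext e))
    (N.subtype.map_isConj ct) (congrArg Subtype.val it)
  have m' : (⟨t', mem_of_conj nN c' vN⟩ : N) ∈ C y' := mem_C.2 (Subtype.ext (mem_C.1 m))
  refine odd_sq_ne (odd_mem oc m') (fun e => ?_) (Subtype.ext (sq_of_conj d.v2 c'))
  have e' : t' = 1 := congrArg Subtype.val e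
  rw [e', isConj_one_left] at c'
  exact d.hvr (c' ▸ one_mem _)

theorem quot {N : Subgroup G} [N.Normal] (hN : Odd (Nat.card N)) :
    DH (P.mapSurjective (QuotientGroup.mk'_surjective N)) (QuotientGroup.mk' N v)
      (QuotientGroup.mk' N j) (QuotientGroup.mk' N r) := by
  set f := QuotientGroup.mk' N with hf
  have f1 : ∀ p ∈ (P : Subgroup G), f p = 1 → p = 1 := fun p hp e =>
    eq_one_of_tw_odd (tw_of_mem P.isPGroup' hp) (odd_mem hN ((QuotientGroup.eq_one_iff p).1 e))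
  have zp : ∀ {p}, p ∈ zpowers r → f p ∈ zpowers (f r) := fun ⟨n, e⟩ => ⟨n, by rw [← e]; simp⟩
  refine ⟨mem_map_of_mem f d.hv, mem_map_of_mem f d.hr, ?_, by rw [← map_mul, d.v2, map_one], ?_, ?_,
    zp d.hj, fun e => d.j1 (f1 j (zpowers_le.2 d.hr d.hj) e), by rw [← map_mul, d.j2, map_one],
    f.map_isConj d.c1, by rw [← map_mul]; exact f.map_isConj d.c2, ?_⟩
  · rintro _ ⟨p, hp, rfl⟩
    exact (d.hP p hp).imp zp fun k => by rw [← map_inv, ← map_mul]; exact zp k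
  · rintro ⟨n, e⟩
    have := f1 (v * (r ^ n)⁻¹) (mul_mem d.hv (inv_mem (zpow_mem d.hr n))) (by
      rw [map_mul, map_inv, map_zpow, ← e]; exact mul_inv_cancel _)
    exact d.hvr ⟨n, (mul_inv_eq_one.1 this).symm⟩
  · unfold Inv
    rw [← map_inv, ← map_inv, ← map_mul, ← map_mul, d.hi]
  · intro y t hy y1 ct it
    obtain ⟨g, rfl⟩ := isConj_iff.1 ct
    obtain ⟨g, rfl⟩ := QuotientGroup.mk'_surjective N g
    have c : IsConj v (g * v * g⁻¹) := isConj_iff.2 ⟨g, rfl⟩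
    have t2 := sq_of_conj d.v2 c
    obtain ⟨b, e⟩ := prod (sq_of_conj (by rw [← map_mul, d.v2, map_one]) ct) hy it
    obtain ⟨b, rfl⟩ := QuotientGroup.mk'_surjective N b
    set t := g * v * g⁻¹ with ht
    have ye : f (t * (b * t * b⁻¹)) = y := by rw [e, ht]; simp only [map_mul, map_inv, hf]
    have o : Odd (orderOf (t * (b * t * b⁻¹))) := by
      have m : (t * (b * t * b⁻¹)) ^ orderOf y ∈ N :=
        (QuotientGroup.eq_one_iff _).1 (show f _ = 1 by rw [map_pow, ye, pow_orderOf_eq_one])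
      exact (hy.mul (odd_mem hN m)).of_dvd_nat
        (orderOf_dvd_of_pow_eq_one (by rw [pow_mul, pow_orderOf_eq_one]))
    obtain ⟨t', c', m⟩ := d.hp _ t o (fun k => y1 (by rw [← ye, k, map_one])) c
      (inv_mul_of_sq (by rw [t2]; exact one_mem _) (by rw [conj_mul, t2]; simp)).1
    exact ⟨f t', f.map_isConj c', mem_C.2 (by rw [← ye, ← map_mul f t', mem_C.1 m, map_mul f _ t'])⟩

theorem three {Q : Subgroup G} (hQ : Q.Normal) (h2 : IsPGroup 2 Q) (hv : v ∈ Q) {t : G}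
    (c : IsConj v t) : t = v ∨ t = j ∨ t = j * v := by
  have le : Q ≤ P := h2.le_sylow_of_normal P
  have jv : v * j = j * v := by
    have := d.inv d.hj
    unfold Inv at this
    rwa [inv_eq_of_mul_eq_one_right d.j2, mul_inv_eq_iff_eq_mul] at this
  have jc : ∀ p ∈ (P : Subgroup G), p * j = j * p := fun p hp => by
    have k : ∀ ρ ∈ zpowers r, Commute ρ j := fun ρ ⟨n, e⟩ => by
      obtain ⟨m, e'⟩ := d.hj
      rw [← e, ← e']; exact (Commute.refl r).zpow_zpow n m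
    rcases d.hP p hp with a | a
    · exact k p a
    · have := (k _ a).mul_left jv
      rwa [inv_mul_cancel_right] at this
  have tv : t * v = v * t := by
    obtain ⟨g, e⟩ := isConj_iff.1 d.c1.symm
    have := jc _ (le (hQ.conj_mem t (mem_of_conj hQ c hv) g⁻¹))
    rw [← e]
    calc _ = g * (g⁻¹ * t * g⁻¹⁻¹ * j) * g⁻¹ := by group
      _ = _ := by rw [this]; group
  have t2 := sq_of_conj d.v2 c
  rcases d.hP t (le (mem_of_conj hQ c hv)) with a | a
  · rcases d.uniq a t2 with e | e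
    · rw [e, isConj_one_left] at c
      exact absurd (c ▸ one_mem _) d.hvr
    · exact .inr (.inl e)
  · have : t * v⁻¹ * (t * v⁻¹) = 1 := by
      rw [inv_eq_of_mul_eq_one_right d.v2]
      calc _ = t * (v * t) * v := by group
        _ = t * t * (v * v) := by rw [← tv]; group
        _ = 1 := by rw [t2, d.v2, one_mul]
    rcases d.uniq a this with e | e
    · exact .inl (mul_inv_eq_one.1 e)
    · exact .inr (.inr (mul_inv_eq_iff_eq_mul.1 e))

theorem caseA {N : Subgroup G} (hn : N.Normal) (hN : Odd (Nat.card N))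
    (ab : ∀ a ∈ N, ∀ b ∈ N, a * b = b * a)
    (h3 : ∀ t, IsConj v t → t * v⁻¹ ∈ N ∨ t * j⁻¹ ∈ N ∨ t * (j * v)⁻¹ ∈ N) {y : G} (yN : y ∈ N)
    (y1 : y ≠ 1) (hvy : Inv v y) : False := by
  have act : ∀ {t s n : G}, t * s⁻¹ ∈ N → n ∈ N → t * n * t⁻¹ = s * n * s⁻¹ := fun {t s n} a b => by
    calc _ = t * s⁻¹ * (s * n * s⁻¹) * (t * s⁻¹)⁻¹ := by group
      _ = _ := by rw [ab _ a _ (hn.conj_mem n b s), mul_inv_cancel_right]
  have sq1 : ∀ {n : G}, n ∈ N → n * n = 1 → n = 1 := fun {n} a b => by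
    by_contra k
    exact odd_sq_ne (odd_mem hN a) k b
  have nP : ∀ {p : G}, p ∈ (P : Subgroup G) → p ∈ N → p = 1 := fun a b =>
    eq_one_of_tw_odd (tw_of_mem P.isPGroup' a) (odd_mem hN b)
  have jP : j ∈ (P : Subgroup G) := zpowers_le.2 d.hr d.hj
  have v1 : v ≠ 1 := fun e => d.hvr (e ▸ one_mem _)
  have jv : v * j = j * v := by
    have := d.inv d.hj
    unfold Inv at this
    rwa [inv_eq_of_mul_eq_one_right d.j2, mul_inv_eq_iff_eq_mul] at this
  let B : G → Prop := fun t0 => ∃ n ∈ N, n ≠ 1 ∧ t0 ∈ C n ∧ ∀ t, IsConj v t → t * t0⁻¹ ∉ N → Inv t n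
  have Bc : ∀ {a b : G}, IsConj a b → B a → B b := fun {a b} c ⟨n, n0, n1, m, k⟩ => by
    obtain ⟨g, rfl⟩ := isConj_iff.1 c
    refine ⟨g * n * g⁻¹, hn.conj_mem n n0 g, fun e => n1 (conj_eq_one_iff.1 e),
      mem_C.2 (by rw [conj_mul, conj_mul, mem_C.1 m]), fun t ct nt => ?_⟩
    have := (k (g⁻¹ * t * g) (ct.trans (isConj_iff.2 ⟨g⁻¹, by rw [inv_inv]⟩)) fun e => nt (by
      have := hn.conj_mem _ e g
      rwa [show g * (g⁻¹ * t * g * a⁻¹) * g⁻¹ = t * (g * a * g⁻¹)⁻¹ by group] at this)).conj g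
    rwa [show g * (g⁻¹ * t * g) * g⁻¹ = t by group] at this
  have mk : ∀ {t0 t1 n : G}, n ∈ N → n ≠ 1 → t0 ∈ C n → Inv v n → Inv t1 n →
      (∀ t, IsConj v t → t * v⁻¹ ∈ N ∨ t * t0⁻¹ ∈ N ∨ t * t1⁻¹ ∈ N) → B t0 :=
    fun {t0 t1 n} a b c i1 i2 k => ⟨n, a, b, c, fun t ct nt => by
      rcases k t ct with e | e | e
      · exact (act e a).trans i1
      · exact absurd e nt
      · exact (act e a).trans i2⟩
  have y' : j * y * j⁻¹ ∈ N := hn.conj_mem y yN j
  have jj : j * (j * y * j⁻¹) * j⁻¹ = y := by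
    calc _ = j * j * y * (j * j)⁻¹ := by group
      _ = _ := by rw [d.j2]; simp
  have vj : v * (j * y * j⁻¹) * v⁻¹ = (j * y * j⁻¹)⁻¹ := by
    calc _ = v * j * y * (v * j)⁻¹ := by group
      _ = j * (v * y * v⁻¹) * j⁻¹ := by rw [jv]; group
      _ = _ := by rw [hvy]; group
  have hB : B j := by
    by_cases k : y * (j * y * j⁻¹) = 1
    · have k' : j * y * j⁻¹ = y⁻¹ := (inv_eq_of_mul_eq_one_right k).symm
      refine Bc (d.c2.symm.trans d.c1) (mk (t1 := j) yN y1 (Inv.mul_inv k' hvy) hvy k'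
        fun t ct => ?_)
      rcases h3 t ct with e | e | e
      exacts [.inl e, .inr (.inr e), .inr (.inl e)]
    · have c : j ∈ C (y * (j * y * j⁻¹)) := mem_C'.2 (by rw [← conj_mul, jj, ab _ y' _ yN])
      have i : Inv v (y * (j * y * j⁻¹)) := by
        unfold Inv
        rw [← conj_mul, vj, hvy, ← mul_inv_rev, ab _ y' _ yN]
      exact mk (mul_mem yN y') k c i (i.mul_C c).2 h3
  obtain ⟨n1, a1, b1, c1, k1⟩ := hB
  obtain ⟨n2, a2, b2, c2, k2⟩ := Bc (d.c1.symm.trans d.c2) ⟨n1, a1, b1, c1, k1⟩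
  have i1 : Inv v n1 := k1 v (IsConj.refl v) fun e =>
    d.hvr (mul_inv_eq_one.1 (nP (mul_mem d.hv (inv_mem jP)) e) ▸ d.hj)
  have i2 : Inv v n2 := k2 v (IsConj.refl v) fun e => d.j1 (by
    have := mul_inv_eq_one.1 (nP (mul_mem d.hv (inv_mem (mul_mem jP d.hv))) e)
    exact right_eq_mul.1 this)
  have i3 : Inv (j * v) n1 := (i1.mul_C c1).2
  have i4 : Inv j n2 := by
    have := (i2.inv_left.mul_C c2).2
    rwa [mul_inv_cancel_right] at this
  have a := mul_mem a1 a2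
  have n1' : n1 * n2 ≠ 1 := fun e => by
    have e' : n2 = n1⁻¹ := (inv_eq_of_mul_eq_one_right e).symm
    refine b2 (sq1 a2 (sq_of_inv i4 ?_))
    rw [e']
    exact mem_C.2 (Commute.inv_right (mem_C.1 c1)).eq
  have i : Inv v (n1 * n2) := by
    unfold Inv
    rw [← conj_mul, i1, i2, ← mul_inv_rev, ab _ a1 _ a2]
  obtain ⟨t, ct, m⟩ := d.hp _ v (odd_mem hN a) n1' (IsConj.refl v) i
  have m' := mem_C'.1 m
  rcases h3 t ct with e | e | e
  · rw [act e a] at m'
    exact n1' (sq1 a (sq_of_inv i (mem_C'.2 m')))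
  · rw [act e a, ← conj_mul, mem_C'.1 c1, i4, mul_right_inj] at m'
    exact b2 (sq1 a2 (mul_eq_one_iff_eq_inv.2 m'.symm))
  · rw [act e a, ← conj_mul, mem_C'.1 c2, i3, mul_left_inj] at m'
    exact b1 (sq1 a1 (mul_eq_one_iff_eq_inv.2 m'.symm))

end DH

theorem main (n : ℕ) : ∀ {G : Type u} [Group G] [Finite G] {P : Sylow 2 G} {v j r y : G},
    Nat.card G < n → DH P v j r → Odd (orderOf y) → y ≠ 1 → Inv v y → False := by
  induction n with
  | zero => exact fun h => absurd h (Nat.not_lt_zero _)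
  | succ n ih =>
    intro G _ _ P v j r y hc d hy y1 hvy
    by_cases hO : ∀ N : Subgroup G, N.Normal → Odd (Nat.card N) → N = ⊥
    · exact d.caseB hO hy y1 hvy
    push Not at hO
    obtain ⟨N, ⟨hn, hN, hb⟩, hmin⟩ := Set.exists_min_image
      {N : Subgroup G | N.Normal ∧ Odd (Nat.card N) ∧ N ≠ ⊥} (fun N => Nat.card N) (Set.toFinite _) hO
    have ab : ⁅N, N⁆ = ⊥ := by
      by_contra k
      haveI := Cfsg.Agent.S0205.result hN
      have le : ⁅N, N⁆ ≤ N := H69.commutator_le_of_le le_rfl le_rfl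
      have e := eq_of_le_of_card_ge le (hmin _ ⟨inferInstance, hN.of_dvd_nat (card_dvd_of_le le), k⟩)
      haveI := Subgroup.isPerfect_iff.2 e
      haveI := (nontrivial_iff_ne_bot N).2 hb
      exact Group.IsPerfect.not_isSolvable N inferInstance
    have d' := d.quot hN
    set f := QuotientGroup.mk' N with hf
    have lt : Nat.card (G ⧸ N) < n := by
      have e := card_eq_card_quotient_mul_card_subgroup N
      have a : 1 < Nat.card N := (one_lt_card_iff_ne_bot N).2 hb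
      have b : 0 < Nat.card (G ⧸ N) := Nat.card_pos
      nlinarith
    have fe : ∀ {a b : G}, f a = f b → a * b⁻¹ ∈ N := fun {a b} e =>
      (QuotientGroup.eq_one_iff _).1 (show f _ = 1 by rw [map_mul, map_inv, e, mul_inv_cancel])
    by_cases hQ : ∀ Q : Subgroup (G ⧸ N), Q ≤ ⊤ → ⊤ ≤ normalizer (Q : Set (G ⧸ N)) → IsPGroup 2 Q →
        f v ∉ Q
    · obtain ⟨x, -, o, x1, i⟩ := bs (K := ⊤) (mem_top (f v)) ⟨1, by rw [pow_one, sq, d'.v2]⟩
        (fun g _ => by rw [d'.v2, one_mul, mul_one]) hQ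
      exact ih lt d' o x1 i
    push Not at hQ
    obtain ⟨Q, -, q1, q2, q3⟩ := hQ
    refine d.caseA hn hN (fun a ha b hb => mem_centralizer_iff.1
      (commutator_eq_bot_iff_le_centralizer.1 ab hb) a ha) (fun t ct => ?_) ?_ y1 hvy
    · refine (d'.three (normalizer_eq_top_iff.1 (top_le_iff.1 q1)) q2 q3 (f.map_isConj ct)).imp fe
        (Or.imp fe fun e => fe ?_)
      rw [map_mul]; exact e
    · by_contra m
      refine ih lt d' (hy.of_dvd_nat (orderOf_map_dvd f y))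
        (fun e => m ((QuotientGroup.eq_one_iff y).1 e)) ?_
      unfold Inv
      rw [← map_inv, ← map_inv, ← map_mul, ← map_mul, hvy]

end VD2

/-- the dihedral lemma -/
theorem vd {v j r : G} (P : Sylow 2 G) (hv : v ∈ (P : Subgroup G)) (hr : r ∈ (P : Subgroup G))
    (hP : ∀ p ∈ (P : Subgroup G), p ∈ zpowers r ∨ p * v⁻¹ ∈ zpowers r) (v2 : v * v = 1)
    (hvr : v ∉ zpowers r) (hi : Inv v r) (hj : j ∈ zpowers r) (j1 : j ≠ 1) (j2 : j * j = 1)
    (c1 : IsConj v j) (c2 : IsConj v (j * v))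
    (hp : ∀ y t : G, Odd (orderOf y) → y ≠ 1 → IsConj v t → Inv t y → ∃ t', IsConj v t' ∧ t' ∈ C y)
    {y : G} (hy : Odd (orderOf y)) (y1 : y ≠ 1) (hvy : Inv v y) : False :=
  VD2.main _ (Nat.lt_succ_self _) (P := P) ⟨hv, hr, hP, v2, hvr, hi, hj, j1, j2, c1, c2, hp⟩ hy y1 hvy

end H50.RC
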