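import Cfsg.Agent.Lib.RCS.FuA
import Cfsg.Agent.Lib.RCS.FuB
import Cfsg.Agent.Lib.RCS.VD2

set_option autoImplicit false

namespace H50.RC

open Subgroup

variable {G : Type*} [Group G] [Finite G] {a k : ℕ}

namespace FinB

omit [Finite G] in
/-- an element of odd order inverted by an involution is a product of two conjugates -/
theorem prod {t y : G} (t2 : t * t = 1) (hy : Odd (orderOf y)) (i : Inv t y) :
    ∃ c : G, y = t * (c * t * c⁻¹) := by
  obtain ⟨l, hl⟩ := hy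
  have e := (i.pow (l + 1)).inv
  refine ⟨(y ^ (l + 1))⁻¹, ?_⟩
  have e1 : y ^ (l + 1) * y ^ (l + 1) = y := by
    rw [← pow_add, show l + 1 + (l + 1) = 2 * l + 1 + 1 by ring, ← hl, pow_succ, pow_orderOf_eq_one,
      one_mul]
  rw [inv_eq_of_mul_eq_one_right t2] at e
  calc y = t * (y ^ (l + 1))⁻¹ * t * y ^ (l + 1) := by rw [e, e1]
    _ = _ := by group

end FinB

theorem Hyp.finB (h : Hyp G 1 k) {w : G} (hw : W w) (w2 : w * w ≠ 1)
    (hn : ∀ Q : Subgroup G, Q.Normal → IsPGroup 2 Q → w ∉ Q)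
    (hi : ∀ H : Subgroup G, H.index = 2 → w ∈ H) : False := by
  classical
  obtain ⟨x0, -, hx0, x01, i0⟩ := bs (K := ⊤) (mem_top w) hw.tw (fun g _ => z0_comm hw.sq g)
    fun Q _ hQ => hn Q (normalizer_eq_top_iff.1 (top_le_iff.1 hQ))
  obtain ⟨S0, c0, -⟩ := h.exists_cf hx0 x01 i0 hw.tw.zp (mem_zpowers w) (zpowers_le.2 (Or.inr i0))
  obtain ⟨⟨x, S⟩, c, hmax⟩ := Set.exists_max_image {p : G × Sylow 2 G | Cf w p.1 p.2}
    (fun p => Nat.card (Ac w p.1 p.2)) (Set.toFinite _) ⟨(x0, S0), c0⟩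
  replace hmax : ∀ x' S', Cf w x' S' → Nat.card (Ac w x' S') ≤ Nat.card (Ac w x S) :=
    fun x' S' c' => hmax (x', S') c'
  replace c : Cf w x S := c
  obtain ⟨j, jT, jA, j2, ⟨g1, hg1, e1⟩, g2, hg2, e2⟩ : Fu w x S := by
    rcases c.dich h hw w2 with e | ⟨s, hs, e⟩
    · exact c.fuA h hw w2 e hi
    · exact c.fuB h hw w2 hmax hs e
  obtain ⟨r, rT, -, ri, rc⟩ := c.cyc h hw w2
  have hSN := c.norm h hw.sq
  set A := Ac w x S with hA
  let N : Subgroup G := normalizer (A : Set G)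
  haveI : (A.subgroupOf N).Normal := normal_in_normalizer
  let f := QuotientGroup.mk' (A.subgroupOf N)
  have hf : Function.Surjective f := QuotientGroup.mk'_surjective _
  have f1 : ∀ {a : N}, f a = 1 ↔ (a : G) ∈ A := fun {a} => QuotientGroup.eq_one_iff a
  have fe : ∀ {a b : N}, (a : G) * (b : G)⁻¹ ∈ A → f a = f b := fun {a b} m => by
    rw [← mul_inv_eq_one, ← map_inv, ← map_mul]; exact f1.2 m
  have cN : ∀ {g : G}, A ≤ C g → g ∈ N := fun {g} m =>
    centralizer_le_normalizer _ fun a ha => mem_C.1 (m ha)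
  have cc : ∀ {g u : G}, g ∈ N → A ≤ C u → A ≤ C (g * u * g⁻¹) := fun {g u} hg m a ha => by
    have := mem_C.1 (m ((mem_normalizer_iff''.1 hg a).1 ha))
    rw [mem_C]
    calc _ = g * (g⁻¹ * a * g * u) * g⁻¹ := by group
      _ = _ := by rw [this]; group
  have A2 : IsPGroup 2 A := S.isPGroup'.to_le (inf_le_left.trans inf_le_left)
  have AT : A ≤ Tc x S := inf_le_left
  have Aw : A ≤ C w := inf_le_right
  have wT : w ∉ Tc x S := fun m => (c.cases c.mem).elim (fun e => e.2 c.inv) fun e => e.1 m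
  let w0 : N := ⟨w, hSN c.mem⟩
  let j0 : N := ⟨j, hSN jT.1⟩
  let r0 : N := ⟨r, hSN rT.1⟩
  let x0 : N := ⟨x, cN (inf_le_left.trans inf_le_right)⟩
  have hT : ∀ s : N, (s : G) ∈ Tc x S → f s ∈ zpowers (f r0) := fun s hs => by
    obtain ⟨n, e⟩ := rc s hs
    rw [fe (b := r0 ^ n) e, map_pow]
    exact pow_mem (mem_zpowers _) n
  have v2 : f w0 * f w0 = 1 := by rw [← map_mul]; exact f1.2 (Cf.z0_le hw.sq)
  have c1 : IsConj (f w0) (f j0) := isConj_iff.2 ⟨f ⟨g1, hg1⟩, by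
    rw [← map_inv, ← map_mul, ← map_mul]; exact fe e1⟩
  have c2 : IsConj (f w0) (f j0 * f w0) := isConj_iff.2 ⟨f ⟨g2, hg2⟩, by
    rw [← map_inv, ← map_mul, ← map_mul, ← map_mul]; exact fe e2⟩
  refine vd (v := f w0) (j := f j0) (r := f r0) (y := f x0) ((S.subtype hSN).mapSurjective hf)
    (mem_map_of_mem f c.mem) (mem_map_of_mem f rT.1) ?_ v2 ?_ ?_ (hT _ jT) (fun e => jA (f1.1 e))
    (by rw [← map_mul]; exact f1.2 j2) c1 c2 ?_ ?_ ?_ ?_
  · rintro _ ⟨s, hs, rfl⟩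
    rcases c.cases (s := s) hs with e | e
    · exact .inl (hT _ e.1)
    · exact .inr (by rw [← map_inv, ← map_mul]; exact hT _ e.2.2)
  · rintro ⟨n, e⟩
    have : f (w0 * (r0 ^ n)⁻¹) = 1 := by
      rw [map_mul, map_inv, map_zpow, ← e]; exact mul_inv_cancel _
    exact wT ((mul_mem_cancel_right (inv_mem (zpow_mem rT n))).1 (AT (f1.1 this)))
  · unfold Inv
    rw [← map_inv, ← map_inv, ← map_mul, ← map_mul]
    exact fe (by simpa using ri)
  · intro y t hy y1 ct it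
    obtain ⟨g, rfl⟩ := isConj_iff.1 ct
    obtain ⟨g, rfl⟩ := hf g
    obtain ⟨d, e⟩ := FinB.prod (by rw [conj_mul, v2]; simp) hy it
    obtain ⟨d, rfl⟩ := hf d
    set w' : G := g * w * (g : G)⁻¹ with hw'
    have W' : W w' := hw.dw (Dw.conj (Dw.self w) g)
    have Aw' : A ≤ C w' := cc g.2 Aw
    let e0 : N := g * w0 * g⁻¹ * (d * (g * w0 * g⁻¹) * d⁻¹)
    have ye : f e0 = y := by rw [e]; simp [e0]
    have ie : Inv w' (e0 : G) := (inv_mul_of_sq W'.sq (Dw.sq W'.sq (Dw.conj (Dw.self w') d))).1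
    have Ae : A ≤ C (e0 : G) := fun a ha => by
      have a1 := mem_C.1 (Aw' ha)
      have a2 := mem_C.1 (cc d.2 Aw' ha)
      exact mem_C.2 (Commute.mul_right a1 a2).eq
    obtain ⟨m, n, ⟨l, p1⟩, p2, p3⟩ := exists_parts e0
    have ym : f e0 ^ m = 1 := eq_one_of_tw_odd ⟨l, by rw [← map_pow, ← map_pow, p1, map_one]⟩
      (ye ▸ hy.of_dvd_nat (orderOf_pow_dvd m))
    have yn : f (e0 ^ n) = y := by
      rw [← ye]
      conv_rhs => rw [p3, map_mul, map_pow, ym, one_mul]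
    have od : Odd (orderOf ((e0 : G) ^ n)) := by rw [← coe_pow, orderOf_coe]; exact p2
    have n1 : (e0 : G) ^ n ≠ 1 := fun k => y1 (by
      rw [← yn, show e0 ^ n = 1 from Subtype.ext k, map_one])
    have An : A ≤ C ((e0 : G) ^ n) := fun a ha =>
      mem_C.2 (Commute.pow_right (mem_C.1 (Ae ha)) n).eq
    obtain ⟨S', c', le⟩ := h.exists_cf od n1 (ie.pow n) (sup_zp A2 W'.tw (cN Aw'))
      (mem_sup_right (mem_zpowers _))
      (sup_le (An.trans (C_le_Cs _)) (zpowers_le.2 (Or.inr (ie.pow n))))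
    have eA : A = Ac w' ((e0 : G) ^ n) S' := by
      refine eq_of_le_of_card_ge (le_inf (le_inf (le_sup_left.trans le) An) Aw') ?_
      obtain ⟨S'', c'', -, k⟩ := c'.conj (g : G)⁻¹
      rw [← k]
      rw [show (g : G)⁻¹ * w' * (g : G)⁻¹⁻¹ = w by rw [hw']; group] at c'' ⊢
      exact hmax _ _ c''
    have hS' : (S' : Subgroup G) ≤ N := by
      have := c'.norm h W'.sq
      rwa [← eA] at this
    obtain ⟨b, hb, k⟩ := syl_conj S S' hSN hS'
    let b0 : N := ⟨b, hb⟩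
    have fin : ∀ s : N, IsConj (f w0) (f s) → b * s * b⁻¹ ∈ C ((e0 : G) ^ n) →
        ∃ t', IsConj (f w0) t' ∧ t' ∈ C y := fun s cs m => by
      refine ⟨f (b0 * s * b0⁻¹), cs.trans (isConj_iff.2 ⟨f b0, by simp⟩), ?_⟩
      rw [mem_C, ← yn, ← map_mul, ← map_mul]
      exact congrArg f (Subtype.ext (mem_C.1 m))
    rcases c'.cases ((k j).1 jT.1) with a1 | a1
    · exact fin j0 c1 a1.1.2
    rcases c'.cases ((k w).1 c.mem) with a2 | a2
    · exact fin w0 (IsConj.refl _) a2.1.2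
    · refine fin (j0 * w0) (by rw [map_mul]; exact c2) ?_
      have := a1.2.1.mul_inv a2.2.1
      rwa [conj_mul] at this
  · exact (show Odd (orderOf x0) by rw [← orderOf_coe]; exact c.odd).of_dvd_nat (orderOf_map_dvd f x0)
  · exact fun e => c.ne (eq_one_of_tw_odd (tw_of_mem A2 (f1.1 e)) c.odd)
  · unfold Inv
    rw [← map_inv, ← map_inv, ← map_mul, ← map_mul]
    exact congrArg f (Subtype.ext c.inv)

end H50.RC
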