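import Cfsg.Agent.Lib.RCS.FinA
import Cfsg.Agent.Lib.RCS.FinB
import Cfsg.Agent.Lib.RCS.Ex
import Cfsg.Agent.Lib.RCS.Red

set_option autoImplicit false

namespace H50.RC

open Subgroup

variable {G : Type*} [Group G] [Finite G] {a k : ℕ}

theorem Hyp.no_odd (h : Hyp G a k) {x : G} (hx : Odd (orderOf x)) (hr : Re x) : x = 1 := by
  have : Fact (Nat.Prime 2) := ⟨Nat.prime_two⟩
  by_contra x1
  obtain ⟨E, hE, w, hwE, hw, e, he, hew⟩ := h.ex hx x1 hr
  have hn : ∀ {w e : G}, e ∈ E → e ∉ C w → ∀ Q : Subgroup G, Q.Normal → IsPGroup 2 Q → w ∉ Q :=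
    fun he hew Q hQ h2 hwQ => hew (mem_C.2 (hE.cen Q hQ h2 _ hwQ _ he).symm)
  rcases a with _ | _ | a
  · obtain ⟨R, hR, -, -, -, hc⟩ := h.exists_R hr (odd_nc hx x1 hr) (odd_sq_ne hx x1) (P := ⊥)
      IsPGroup.of_bot bot_le
    obtain ⟨S, hS⟩ := hR.exists_le_sylow
    have := card_le_of_le hS
    rw [hc, h.syl S, zero_add, pow_succ] at this
    have : 0 < 2 ^ k := by positivity
    omega
  · obtain ⟨w', hw'E, hw', w2, e', he', hew'⟩ := Hyp.ord4 h hE hwE hw he hew
    exact Hyp.finB h hw' w2 (hn he' hew') fun H hH => hE.idx H hH hw'E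
  · exact h.finA (by omega) hw (hn he hew)

omit [Finite G] in
private theorem card_comap (N : Subgroup G) [N.Normal] (Q : Subgroup (G ⧸ N)) :
    N.relIndex (Q.comap (QuotientGroup.mk' N)) = Nat.card Q := by
  have := relIndex_comap (⊥ : Subgroup (G ⧸ N)) (QuotientGroup.mk' N) (Q.comap (QuotientGroup.mk' N))
  rwa [map_comap_eq_self_of_surjective (QuotientGroup.mk'_surjective N), relIndex_bot_left,
    MonoidHom.comap_bot, QuotientGroup.ker_mk'] at this

omit [Finite G] in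
private theorem le_comap (N : Subgroup G) [N.Normal] (Q : Subgroup (G ⧸ N)) :
    N ≤ Q.comap (QuotientGroup.mk' N) := fun n hn => by
  rw [mem_comap, QuotientGroup.mk'_apply, (QuotientGroup.eq_one_iff n).2 hn]
  exact one_mem _

theorem main (h : Orig G a) : ∃ N K : Subgroup G, N.Normal ∧ K.Normal ∧ N ≤ K ∧ Odd (Nat.card N) ∧
    Odd K.index ∧ ∃ j : ℕ, N.relIndex K = 2 ^ j := by
  have : Fact (Nat.Prime 2) := ⟨Nat.prime_two⟩
  obtain ⟨N, ⟨hN, hNo⟩, hmax⟩ := Set.Finite.exists_maximal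
    (s := {N : Subgroup G | N.Normal ∧ Odd (Nat.card N)}) (Set.toFinite _)
    ⟨⊥, inferInstance, by simp⟩
  have hO : ∀ L : Subgroup (G ⧸ N), L.Normal → Odd (Nat.card L) → L = ⊥ := by
    intro L hL hLo
    have hle := le_comap N L
    have hc : Odd (Nat.card (L.comap (QuotientGroup.mk' N))) := by
      have e := card_mul_index (N.subgroupOf (L.comap (QuotientGroup.mk' N)))
      rw [Nat.card_congr (subgroupOfEquivOfLe hle).toEquiv] at e
      rw [← e]
      refine hNo.mul ?_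
      change Odd (N.relIndex _)
      rwa [card_comap]
    have h1 := hmax ⟨hL.comap _, hc⟩ hle
    rw [← card_eq_one, ← card_comap, relIndex_eq_one]
    exact h1
  have hq := h.quot N hNo
  obtain ⟨Q, hQ, h2, hi⟩ := closed (G := G ⧸ N) fun x hx hr => by
    by_contra x1
    obtain ⟨k, hk⟩ := hq.hyp hO hr (odd_nc hx x1 hr)
    exact x1 (hk.no_odd hx hr)
  refine ⟨N, Q.comap (QuotientGroup.mk' N), hN, hQ.comap _, le_comap N Q, hNo, ?_, ?_⟩
  · rwa [index_comap_of_surjective _ (QuotientGroup.mk'_surjective N)]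
  · rw [card_comap]; exact IsPGroup.iff_card.1 h2

end H50.RC
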