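import Cfsg.Agent.Lib.RCS.Bas
import Cfsg.Agent.S0483
import Cfsg.Agent.S0111
import Cfsg.Agent.Lib.Inv73.D8
import Cfsg.Agent.Lib.TwoGrp.RankOne
import Cfsg.Agent.Lib.Core.PCore

set_option autoImplicit false

namespace H50.RC

open Subgroup

variable {G : Type*} [Group G] [Finite G] {a k : ℕ}

namespace VD1

open Matrix
open scoped MatrixGroups

theorem odd_C_of {y : G} (h : ∀ j ∈ C y, j * j = 1 → j = 1) : Odd (Nat.card (C y)) := by
  by_contra hn
  obtain ⟨j, hj⟩ := exists_prime_orderOf_dvd_card' (G := C y) 2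
    (even_iff_two_dvd.1 (Nat.not_odd_iff_even.1 hn))
  rw [show j = 1 from Subtype.ext (h j j.2 (by
    rw [← coe_mul, ← pow_two, ← hj, pow_orderOf_eq_one, coe_one])), orderOf_one] at hj
  omega

theorem quo (hz : ∀ z ∈ center G, z * z = 1) {Y T : G} {m : ℕ} (hm : Odd m) (hY : Y ^ m = 1)
    (hc : Y ∉ center G) (hT : T * T ∈ center G) (hi : T * Y * T⁻¹ = Y⁻¹)
    (hJ : ∀ J, J * Y = Y * J → J * J ∈ center G → J ∈ center G) :
    ∃ y t : G ⧸ center G, Odd (orderOf y) ∧ y ≠ 1 ∧ t * t = 1 ∧ Inv t y ∧ Odd (Nat.card (C y)) := by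
  have ho : Odd (orderOf Y) := hm.of_dvd_nat (orderOf_dvd_of_pow_eq_one hY)
  refine ⟨Y, T, ho.of_dvd_nat (orderOf_map_dvd (QuotientGroup.mk' _) Y),
    fun e => hc ((QuotientGroup.eq_one_iff Y).1 e), (QuotientGroup.eq_one_iff (T * T)).2 hT,
    congrArg (QuotientGroup.mk' (center G)) hi, odd_C_of fun j hj j2 => ?_⟩
  obtain ⟨J, rfl⟩ := QuotientGroup.mk_surjective j
  have h1 : lam Y J ∈ center G := (QuotientGroup.eq_one_iff _).1 (lam_eq_one.2 hj)
  exact (QuotientGroup.eq_one_iff J).2 (hJ J (mem_C.1 (odd_C ho ⟨h1, hz _ h1⟩))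
    ((QuotientGroup.eq_one_iff (J * J)).1 j2))

variable {F : Type} [Field F]

theorem cen_iff {A : SL(2, F)} : A ∈ center SL(2, F) ↔ A 0 1 = 0 ∧ A 1 0 = 0 ∧ A 0 0 = A 1 1 := by
  rw [Matrix.SpecialLinearGroup.mem_center_iff]
  constructor
  · rintro ⟨r, -, e⟩
    have : ∀ i j, A i j = scalar (Fin 2) r i j := fun i j => by rw [e]
    simp [this]
  · rintro ⟨h1, h2, h3⟩
    have := A.det_coe
    rw [det_fin_two] at this
    refine ⟨A 0 0, ?_, ?_⟩
    · rw [Fintype.card_fin]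
      linear_combination this + A 0 0 * h3 + A 1 0 * h1
    · ext i j
      fin_cases i <;> fin_cases j <;> simp [h1, h2, h3]

theorem cen_sq (z : SL(2, F)) (hz : z ∈ center SL(2, F)) : z * z = 1 := by
  obtain ⟨r, h, e⟩ := Matrix.SpecialLinearGroup.mem_center_iff.1 hz
  refine Subtype.ext ?_
  rw [Matrix.SpecialLinearGroup.coe_mul, ← e, ← map_mul, ← pow_two, ← Fintype.card_fin 2, h, map_one]
  rfl

theorem ent (A B : SL(2, F)) (i j : Fin 2) : (A * B) i j = A i 0 * B 0 j + A i 1 * B 1 j := by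
  simp [mul_apply, Fin.sum_univ_two]

theorem mk4 (a b c d : F) (h : a * d - b * c = 1) :
    ∃ A : SL(2, F), A 0 0 = a ∧ A 0 1 = b ∧ A 1 0 = c ∧ A 1 1 = d :=
  ⟨⟨!![a, b; c, d], by rw [det_fin_two_of, h]⟩, rfl, rfl, rfl, rfl⟩

theorem ext4 {A B : SL(2, F)} (h1 : A 0 0 = B 0 0) (h2 : A 0 1 = B 0 1) (h3 : A 1 0 = B 1 0)
    (h4 : A 1 1 = B 1 1) : A = B := by
  ext i j
  fin_cases i <;> fin_cases j <;> assumption

theorem one4 : (1 : SL(2, F)) 0 0 = 1 ∧ (1 : SL(2, F)) 0 1 = 0 ∧ (1 : SL(2, F)) 1 0 = 0 ∧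
    (1 : SL(2, F)) 1 1 = 1 := by simp

omit [Finite G] in
theorem tr {X : Type*} [Group X] (e : X ≃* G) {y t : X} (h1 : Odd (orderOf y)) (h2 : y ≠ 1)
    (h3 : t * t = 1) (h4 : Inv t y) (h5 : Odd (Nat.card (C y))) :
    ∃ y t : G, Odd (orderOf y) ∧ y ≠ 1 ∧ t * t = 1 ∧ Inv t y ∧ Odd (Nat.card (C y)) :=
  ⟨e y, e t, by rwa [e.orderOf_eq], by simpa using h2, by rw [← map_mul, h3, map_one],
    by simpa [Inv] using congrArg e h4, by
      rwa [← Nat.card_congr (e.toEquiv.subtypeEquiv (p := (· ∈ C y)) fun s => by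
        rw [mem_C, mem_C, MulEquiv.toEquiv_eq_coe, MulEquiv.coe_toEquiv, ← map_mul, ← map_mul,
          e.apply_eq_iff_eq])]⟩

theorem a7' : ∀ a b c : Fin 7, ∀ y f : Fin 7 → Fin 7, y = ![1, 2, 3, 4, 0, 5, 6] →
    f = ![a, y a, y (y a), y (y (y a)), y (y (y (y a))), b, c] → (∀ i, f (f i) = i) →
    (∀ i, f (y i) = y (f i)) → (∀ i, f i = i) ∨ ∀ i, f i = Equiv.swap 5 6 i := by
  intro a b c y f hy hf
  subst hy hf
  revert a b c
  decide +kernel

theorem a7 (j : Equiv.Perm (Fin 7)) (h1 : j * c[0, 1, 2, 3, 4] = c[0, 1, 2, 3, 4] * j)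
    (h2 : j * j = 1) : j = 1 ∨ j = Equiv.swap 5 6 := by
  have e : ∀ i, (c[0, 1, 2, 3, 4] : Equiv.Perm (Fin 7)) i = ![1, 2, 3, 4, 0, 5, 6] i := by decide
  have h3 : ∀ i, j (![1, 2, 3, 4, 0, 5, 6] i) = ![1, 2, 3, 4, 0, 5, 6] (j i) := fun i => by
    rw [← e, ← e]; exact Equiv.ext_iff.1 h1 i
  refine (a7' (j 0) (j 5) (j 6) _ j rfl (funext fun i => ?_) (Equiv.ext_iff.1 h2) h3).imp
    Equiv.ext Equiv.ext
  simp only [← h3]
  fin_cases i <;> rfl

end VD1

open VD1 Matrix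
open scoped MatrixGroups

theorem vd_psl (F : Type) [Field F] [Fintype F] (ho : Odd (Fintype.card F)) (h3 : 3 < Fintype.card F) :
    ∃ y t : Matrix.ProjectiveSpecialLinearGroup (Fin 2) F,
      Odd (orderOf y) ∧ y ≠ 1 ∧ t * t = 1 ∧ Inv t y ∧ Odd (Nat.card (C y)) := by
  classical
  have h2 : (2 : F) ≠ 0 := fun e => by
    obtain ⟨n, hn⟩ := ho
    have := FiniteField.cast_card_eq_zero F
    rw [hn, Nat.cast_add, Nat.cast_mul, Nat.cast_ofNat, e] at this
    simp at this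
  by_cases hs : IsSquare (-1 : F)
  · obtain ⟨i, hi⟩ := hs
    obtain ⟨Y, y1, y2, y3, y4⟩ := mk4 (1 : F) 1 0 1 (by ring)
    obtain ⟨T, t1, t2, t3, t4⟩ := mk4 i 0 0 (-i) (by linear_combination hi)
    have hp : ∀ n : ℕ, (Y ^ n) 0 0 = 1 ∧ (Y ^ n) 0 1 = n ∧ (Y ^ n) 1 0 = 0 ∧ (Y ^ n) 1 1 = 1 := by
      intro n
      induction n with
      | zero => simp
      | succ n ih => simp only [pow_succ, ent, ih, y1, y2, y3, y4]; simp [add_comm]
    refine quo cen_sq (Y := Y) (T := T) ho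
      (ext4 (by simp only [hp, one4]) (by simp only [hp, one4, FiniteField.cast_card_eq_zero])
        (by simp only [hp, one4]) (by simp only [hp, one4]))
      (fun e => one_ne_zero (y2.symm.trans (cen_iff.1 e).1))
      (by simp only [cen_iff, ent, t1, t2, t3, t4]; simp) ?_ fun J h1 h4 => ?_
    · refine mul_inv_eq_iff_eq_mul.2 (eq_inv_mul_iff_mul_eq.2 (ext4 ?_ ?_ ?_ ?_)) <;>
        simp only [ent, y1, y2, y3, y4, t1, t2, t3, t4] <;> ring
    · have e0 := congrArg (fun A : SL(2, F) => A 0 0) h1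
      have e2 := congrArg (fun A : SL(2, F) => A 0 1) h1
      have e3 := (cen_iff.1 h4).1
      have e4 := J.det_coe
      simp only [ent, y1, y2, y3, y4] at e0 e2 e3
      have e1 : J 1 0 = 0 := by linear_combination -e0
      rw [det_fin_two, e1, mul_zero, sub_zero] at e4
      have e5 : J 0 0 = J 1 1 := by linear_combination e2
      refine cen_iff.2 ⟨?_, e1, e5⟩
      refine (mul_eq_zero.1 (show 2 * J 0 1 = 0 from ?_)).resolve_left h2
      rw [← e5] at e3 e4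
      linear_combination J 0 0 * e3 - 2 * J 0 1 * e4
  · have h4 : Fintype.card F % 4 = 3 := by
      by_contra hn
      exact hs (FiniteField.isSquare_neg_one_iff.2 hn)
    obtain ⟨g, hg⟩ : ∃ g : F, g ∉ ({0, 1, -1} : Finset F) := by
      by_contra hn
      push Not at hn
      have := Finset.card_le_card (show Finset.univ ⊆ ({0, 1, -1} : Finset F) from fun g _ => hn g)
      have := Finset.card_le_three (a := (0 : F)) (b := 1) (c := -1)
      rw [Finset.card_univ] at *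
      omega
    simp only [Finset.mem_insert, Finset.mem_singleton, not_or] at hg
    have sq : ∀ a : F, a * a * (a * a) = 1 → a * a = 1 := fun a ha =>
      (mul_self_eq_one_iff.1 ha).resolve_right fun e => hs ⟨a, e.symm⟩
    obtain ⟨μ, hμ⟩ : ∃ μ, μ = g * g := ⟨_, rfl⟩
    have m0 : μ ≠ 0 := hμ ▸ mul_ne_zero hg.1 hg.1
    have m1 : μ ≠ μ⁻¹ := fun e => by
      have := sq g (by rw [← hμ]; nth_rewrite 2 [e]; exact mul_inv_cancel₀ m0)
      rcases mul_self_eq_one_iff.1 this with e | e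
      exacts [hg.2.1 e, hg.2.2 e]
    have m2 : μ ^ (Fintype.card F / 2) = 1 := by
      rw [hμ, ← pow_two, ← pow_mul, show 2 * (Fintype.card F / 2) = Fintype.card F - 1 by omega]
      exact FiniteField.pow_card_sub_one_eq_one g hg.1
    obtain ⟨Y, y1, y2, y3, y4⟩ := mk4 μ 0 0 μ⁻¹ (by rw [mul_inv_cancel₀ m0]; ring)
    obtain ⟨T, t1, t2, t3, t4⟩ := mk4 (0 : F) 1 (-1) 0 (by ring)
    have hp : ∀ n : ℕ, (Y ^ n) 0 0 = μ ^ n ∧ (Y ^ n) 0 1 = 0 ∧ (Y ^ n) 1 0 = 0 ∧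
        (Y ^ n) 1 1 = μ⁻¹ ^ n := by
      intro n
      induction n with
      | zero => simp
      | succ n ih => simp only [pow_succ, ent, ih, y1, y2, y3, y4]; simp
    refine quo cen_sq (Y := Y) (T := T) (m := Fintype.card F / 2) (Nat.odd_iff.2 (by omega))
      (ext4 (by simp only [hp, one4, m2]) (by simp only [hp, one4])
        (by simp only [hp, one4]) (by simp only [hp, one4, inv_pow, m2, inv_one]))
      (fun e => m1 (y1.symm.trans ((cen_iff.1 e).2.2.trans y4)))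
      (by simp only [cen_iff, ent, t1, t2, t3, t4]; simp) ?_ fun J h1 h4 => ?_
    · refine mul_inv_eq_iff_eq_mul.2 (eq_inv_mul_iff_mul_eq.2 (ext4 ?_ ?_ ?_ ?_)) <;>
        simp only [ent, y1, y2, y3, y4, t1, t2, t3, t4] <;> simp [m0]
    · have e1 := congrArg (fun A : SL(2, F) => A 0 1) h1
      have e2 := congrArg (fun A : SL(2, F) => A 1 0) h1
      have e3 := (cen_iff.1 h4).2.2
      have e4 := J.det_coe
      simp only [ent, y1, y2, y3, y4] at e1 e2 e3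
      have f1 : J 0 1 = 0 := (mul_eq_zero.1 (show J 0 1 * (μ - μ⁻¹) = 0 by
        linear_combination -e1)).resolve_right (sub_ne_zero.2 m1)
      have f2 : J 1 0 = 0 := (mul_eq_zero.1 (show J 1 0 * (μ - μ⁻¹) = 0 by
        linear_combination e2)).resolve_right (sub_ne_zero.2 m1)
      rw [det_fin_two, f1, zero_mul, sub_zero] at e4
      rw [f1, f2] at e3
      have e5 := sq (J 0 0) (by linear_combination J 0 0 * J 0 0 * e3 + (J 0 0 * J 1 1 + 1) * e4)
      exact cen_iff.2 ⟨f1, f2, by linear_combination J 1 1 * e5 - J 0 0 * e4⟩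

theorem vd_a7 : ∃ y t : alternatingGroup (Fin 7),
    Odd (orderOf y) ∧ y ≠ 1 ∧ t * t = 1 ∧ Inv t y ∧ Odd (Nat.card (C y)) := by
  refine ⟨⟨c[0, 1, 2, 3, 4], Equiv.Perm.mem_alternatingGroup.2 (by decide)⟩,
    ⟨Equiv.swap 1 4 * Equiv.swap 2 3, Equiv.Perm.mem_alternatingGroup.2 (by decide)⟩,
    Odd.of_dvd_nat (by decide : Odd 5) (orderOf_dvd_of_pow_eq_one (Subtype.ext
      (show (c[0, 1, 2, 3, 4] : Equiv.Perm (Fin 7)) ^ 5 = 1 by decide +kernel))),
    fun e => absurd (congrArg Subtype.val e) (by decide), Subtype.ext (by decide),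
    Subtype.ext (by decide), odd_C_of fun j hj j2 => ?_⟩
  rcases a7 j.1 (congrArg Subtype.val (mem_C.1 hj)) (congrArg Subtype.val j2) with e | e
  · exact Subtype.ext e
  · have := Equiv.Perm.mem_alternatingGroup.1 j.2
    rw [e] at this
    exact absurd this (by decide)

/-- perfect, no odd normal subgroup, dihedral Sylow 2-subgroup -/
theorem vd_perf [Group.IsPerfect G] (hO : ∀ N : Subgroup G, N.Normal → Odd (Nat.card N) → N = ⊥)
    (P : Sylow 2 G) {v r : G} (hv : v ∈ (P : Subgroup G)) (hr : r ∈ (P : Subgroup G)) (r1 : r ≠ 1)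
    (hP : ∀ p ∈ (P : Subgroup G), p ∈ zpowers r ∨ p * v⁻¹ ∈ zpowers r) (v2 : v * v = 1)
    (hvr : v ∉ zpowers r) (hi : Inv v r) :
    ∃ y t : G, Odd (orderOf y) ∧ y ≠ 1 ∧ IsConj v t ∧ Inv t y ∧ Odd (Nat.card (C y)) := by
  have D : H73.DihData (P : Subgroup G) (orderOf r) r v := ⟨rfl, v2, hi, hvr, fun g =>
    ⟨fun hg => (hP g hg).elim (fun ⟨i, e⟩ => ⟨i, Or.inl e.symm⟩)
      fun ⟨i, e⟩ => ⟨i, Or.inr (mul_inv_eq_iff_eq_mul.1 e.symm)⟩, by
      rintro ⟨i, rfl | rfl⟩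
      exacts [zpow_mem hr i, mul_mem (zpow_mem hr i) hv]⟩⟩
  have h2 : 2 ≤ orderOf r := by
    have := orderOf_pos r
    have := mt orderOf_eq_one_iff.1 r1
    omega
  have e0 : G ⧸ Cfsg.oddCore G ≃* G := (QuotientGroup.quotientMulEquivOfEq
    (hO _ inferInstance H1.odd_card_oddCore)).trans QuotientGroup.quotientBot
  obtain ⟨y, t, y1, y2, t2, y3, y4⟩ : ∃ y t : G,
      Odd (orderOf y) ∧ y ≠ 1 ∧ t * t = 1 ∧ Inv t y ∧ Odd (Nat.card (C y)) := by
    rcases Cfsg.Agent.S0483.result P _ h2 (D.nonempty_mulEquiv (by omega)) with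
      ⟨F, _, _, h1, h3, ⟨e⟩⟩ | ⟨⟨e⟩⟩
    · obtain ⟨y, t, a1, a2, a3, a4, a5⟩ := vd_psl F h1 h3
      exact tr (e.symm.trans e0) a1 a2 a3 a4 a5
    · obtain ⟨y, t, a1, a2, a3, a4, a5⟩ := vd_a7
      exact tr (e.symm.trans e0) a1 a2 a3 a4 a5
  have key : ∀ u : G, u * u = 1 → u ≠ 1 → ∃ g : G, g * u * g⁻¹ ∈ zpowers r := by
    have k1 : ∀ u ∈ (P : Subgroup G), u * u = 1 → u ≠ 1 → ∃ g : G, g * u * g⁻¹ ∈ zpowers r := by
      intro u hu u2 u1
      by_cases h : u ∈ zpowers r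
      · exact ⟨1, by simpa using h⟩
      refine (Cfsg.Agent.S0111.result P _ D.zpowers_le D.relIndex u
        (orderOf_eq_prime (by rw [pow_two, u2]) u1) hu h).resolve_left ?_
      rintro ⟨M, -, m2, m3⟩
      refine m3 ((Group.IsPerfect.commutator_eq_top (G := G)).ge.trans
        (commutator_le.2 fun a _ b _ => ?_) (mem_top u))
      simp only [commutatorElement_def, mul_mem_iff_of_index_two m2, inv_mem_iff]
      tauto
    intro u u2 u1
    obtain ⟨Q, hQ⟩ := (Tw.zp (y := u) ⟨1, by rw [pow_one, pow_two, u2]⟩).exists_le_sylow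
    obtain ⟨g, rfl⟩ := MulAction.exists_smul_eq G Q P
    obtain ⟨g', h⟩ := k1 (g * u * g⁻¹)
      ((smul_mem_pointwise_smul_iff (a := MulAut.conj g)).2 (hQ (mem_zpowers u)))
      (by rw [conj_mul, u2]; group) (by simpa using u1)
    exact ⟨g' * g, by rwa [show g' * g * u * (g' * g)⁻¹ = g' * (g * u * g⁻¹) * g'⁻¹ by group]⟩
  have v1 : v ≠ 1 := fun e => hvr (e ▸ one_mem _)
  have t1 : t ≠ 1 := fun e => odd_sq_ne y1 y2 (mul_eq_one_iff_eq_inv.2 (by simpa [Inv, e] using y3))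
  obtain ⟨g, hg⟩ := key v v2 v1
  obtain ⟨g', hg'⟩ := key t t2 t1
  have e := congrArg Subtype.val (H13.TG.ui_of_isCyclic (G := zpowers r) ⟨_, hg⟩ ⟨_, hg'⟩
    (Subtype.ext (by simp [v2])) (Subtype.ext (by simp [t2]))
    (fun e => v1 (by simpa using congrArg Subtype.val e))
    (fun e => t1 (by simpa using congrArg Subtype.val e)))
  exact ⟨y, t, y1, y2, (isConj_iff.2 ⟨g, e⟩).trans (isConj_iff.2 ⟨g', rfl⟩).symm, y3, y4⟩

end H50.RC
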